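import Mathlib
import Cfsg.Agent.H106.RC.Defs
import Cfsg.Agent.H106.RC.MRule

/-!
# S3510 part B: core definitions and the abstract rule (helper384)

* `RCo S`: odd order automorphisms of `S` have the regular cycle property.
* `Killed t`: the involution `t` of `Aut S` cannot be part of a bad cover together with commuting
  elements of distinct odd prime orders.
* `killed_of`: the abstract rule (M-rule + root element).
* `rc_of_killed`: assembly.
-/

set_option autoImplicit false
open MulAction

namespace Cfsg.Agent.H384.RC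

open Cfsg.Agent.H106.RC

/-- odd order automorphisms have the regular cycle property -/
def RCo (S : Type*) [Group S] : Prop := ∀ α : MulAut S, Odd (orderOf α) → RCe S α

theorem RCo.of_RC {S : Type*} [Group S] (h : RC S) : RCo S := fun α _ => h α

theorem RCo.congr {S S' : Type*} [Group S] [Group S'] (e : S ≃* S') (h : RCo S) : RCo S' := by
  intro g hg
  have h1 : orderOf ((MulAut.congr e).symm g) = orderOf g :=
    orderOf_injective (MulAut.congr e).symm.toMonoidHom (MulAut.congr e).symm.injective g
  have := (h ((MulAut.congr e).symm g) (by rw [h1]; exact hg)).congr e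
  rwa [MulEquiv.apply_symm_apply] at this

/-- the involution `t` of `Aut S` is never part of a bad cover with odd primes -/
def Killed {S : Type*} [Group S] (t : MulAut S) : Prop :=
  ∀ (κ : Type) [Finite κ] (x : κ → MulAut S) (r : κ → ℕ), (∀ i, (r i).Prime) → (∀ i, r i ≠ 2) →
    Function.Injective r → (∀ i, x i ^ r i = 1) → (∀ i, x i ≠ 1) →
    (∀ i j, x i * x j = x j * x i) → (∀ i, t * x i = x i * t) →
    ∀ H : Subgroup (MulAut S),
      (∀ s : S, MulAut.conj s * t * (MulAut.conj s)⁻¹ ∈ H ∨
        ∃ i, MulAut.conj s * x i * (MulAut.conj s)⁻¹ ∈ H) →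
      (MulAut.conj : S →* MulAut S).range ≤ H

section conj

variable {S : Type*} [Group S]

theorem aut_conj (a : MulAut S) (s : S) : a * MulAut.conj s * a⁻¹ = MulAut.conj (a s) := by
  ext x
  simp [MulAut.conj_apply]

/-- `Killed` is invariant under conjugation -/
theorem Killed.conj {t : MulAut S} (h : Killed t) (a : MulAut S) : Killed (a * t * a⁻¹) := by
  intro κ _ x r hr hr2 hinj hx hx1 hc hct H hH
  let H' : Subgroup (MulAut S) := H.comap (MulAut.conj a).toMonoidHom
  have hmem : ∀ z, z ∈ H' ↔ a * z * a⁻¹ ∈ H := fun z => Iff.rfl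
  have key := h κ (fun i => a⁻¹ * x i * a) r hr hr2 hinj
    (fun i => by
      have : a⁻¹ * x i * a = a⁻¹ * x i * (a⁻¹)⁻¹ := by rw [inv_inv]
      rw [this, conj_pow, hx, mul_one, mul_inv_cancel])
    (fun i h1 => hx1 i (by
      have : x i = a * (a⁻¹ * x i * a) * a⁻¹ := by group
      rw [this, h1]; group))
    (fun i j => by
      calc a⁻¹ * x i * a * (a⁻¹ * x j * a) = a⁻¹ * (x i * x j) * a := by group
        _ = a⁻¹ * (x j * x i) * a := by rw [hc]
        _ = _ := by group)
    (fun i => by
      have h1 := hct i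
      calc t * (a⁻¹ * x i * a) = a⁻¹ * (a * t * a⁻¹ * x i) * a := by group
        _ = a⁻¹ * (x i * (a * t * a⁻¹)) * a := by rw [h1]
        _ = _ := by group)
    H' (by
      intro s
      have e1 : ∀ z : MulAut S, a * (MulAut.conj s * z * (MulAut.conj s)⁻¹) * a⁻¹ =
          MulAut.conj (a s) * (a * z * a⁻¹) * (MulAut.conj (a s))⁻¹ := by
        intro z
        rw [← aut_conj]
        group
      rcases hH (a s) with h1 | ⟨i, h1⟩
      · left
        rw [hmem, e1]
        exact h1
      · right
        refine ⟨i, ?_⟩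
        rw [hmem, e1]
        have : a * (a⁻¹ * x i * a) * a⁻¹ = x i := by group
        rw [this]
        exact h1)
  rintro _ ⟨s, rfl⟩
  have h2 : MulAut.conj (a⁻¹ s) ∈ H' := key ⟨a⁻¹ s, rfl⟩
  rw [hmem, aut_conj] at h2
  simpa using h2

end conj

section transport

variable {S S' : Type*} [Group S] [Group S']

theorem congr_conj (e : S ≃* S') (s : S) : MulAut.congr e (MulAut.conj s) = MulAut.conj (e s) := by
  ext x
  simp [MulAut.congr]

/-- `Killed` transports along isomorphisms -/
theorem Killed.congr (e : S ≃* S') {t : MulAut S} (h : Killed t) : Killed (MulAut.congr e t) := by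
  intro κ _ x r hr hr2 hinj hx hx1 hc hct H hH
  let H' : Subgroup (MulAut S) := H.comap (MulAut.congr e).toMonoidHom
  have hmem : ∀ z, z ∈ H' ↔ MulAut.congr e z ∈ H := fun z => Iff.rfl
  have hs : ∀ z, MulAut.congr e ((MulAut.congr e).symm z) = z := fun z =>
    MulEquiv.apply_symm_apply _ z
  have hinj' := (MulAut.congr e).injective
  have key := h κ (fun i => (MulAut.congr e).symm (x i)) r hr hr2 hinj
    (fun i => by rw [← map_pow, hx, map_one])
    (fun i h1 => hx1 i (by rw [← hs (x i), h1, map_one]))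
    (fun i j => by rw [← map_mul, ← map_mul, hc])
    (fun i => by
      apply hinj'
      rw [map_mul, map_mul, hs, hct])
    H' (by
      intro s
      rcases hH (e s) with h1 | ⟨i, h1⟩
      · left
        rw [hmem, map_mul, map_mul, map_inv, congr_conj]
        exact h1
      · right
        refine ⟨i, ?_⟩
        rw [hmem, map_mul, map_mul, map_inv, congr_conj, hs]
        exact h1)
  rintro _ ⟨s, rfl⟩
  have h2 : MulAut.conj (e.symm s) ∈ H' := key ⟨e.symm s, rfl⟩
  rw [hmem, congr_conj] at h2
  simpa using h2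

end transport

section rule

variable {S : Type*} [Group S]

/-- `Inn S` -/
abbrev inn (S : Type*) [Group S] : Subgroup (MulAut S) := (MulAut.conj : S →* MulAut S).range

theorem inn_conj_mem {n : MulAut S} (hn : n ∈ inn S) (a : MulAut S) : a * n * a⁻¹ ∈ inn S := by
  obtain ⟨s, rfl⟩ := hn
  exact ⟨a s, (aut_conj a s).symm⟩

/-- if an element `y ≠ 1` of `Inn S` has all conjugates in `H`, then `Inn S ≤ H`, `S` simple -/
theorem inn_le_of_conj (hS : IsSimpleGroup S) {y : MulAut S}
    (hy : y ∈ inn S) (hy1 : y ≠ 1) (H : Subgroup (MulAut S))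
    (h : ∀ s : S, MulAut.conj s * y * (MulAut.conj s)⁻¹ ∈ H) : inn S ≤ H := by
  obtain ⟨u, rfl⟩ := hy
  have hu : u ≠ 1 := by
    rintro rfl
    exact hy1 (map_one _)
  have h1 : Subgroup.normalClosure {u} ≤ H.comap (MulAut.conj : S →* MulAut S) := by
    rw [Subgroup.normalClosure, Subgroup.closure_le]
    intro v hv
    obtain ⟨w, hw, hvw⟩ := Group.mem_conjugatesOfSet_iff.1 hv
    rw [Set.mem_singleton_iff] at hw
    subst hw
    obtain ⟨c, rfl⟩ := isConj_iff.1 hvw
    show MulAut.conj (c * w * c⁻¹) ∈ H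
    rw [map_mul, map_mul, map_inv]
    exact h c
  have h2 : Subgroup.normalClosure {u} = ⊤ := by
    rcases hS.eq_bot_or_eq_top_of_normal _ (Subgroup.normalClosure_normal (s := {u})) with h3 | h3
    · exfalso
      have : u ∈ Subgroup.normalClosure {u} := Subgroup.subset_normalClosure rfl
      rw [h3, Subgroup.mem_bot] at this
      exact hu this
    · exact h3
  rintro _ ⟨s, rfl⟩
  have : s ∈ Subgroup.normalClosure {u} := by rw [h2]; trivial
  exact h1 this

/-- **abstract rule**: `M` quasisimple subgroup of `Inn S` centralised by `t`, normalised by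
everything which commutes with `t`; no element of odd prime order commuting with `t` centralises
`M`; and a root element `y ∈ M` in the subgroup generated by the commutators `[q, t]`, `q` commuting
with `y`. -/
theorem killed_of {S' : Type*} [Group S'] (hS : IsSimpleGroup S)
    (hS' : IsSimpleGroup S') (hSn' : ¬ IsMulCommutative S') (hRC : RCo S')
    (t : MulAut S) (M : Subgroup (MulAut S)) (hperf : ⁅M, M⁆ = M)
    (π : M →* S') (hπ : Function.Surjective π) (hker : π.ker ≤ Subgroup.center M)
    (hMi : M ≤ inn S) (ht2 : t * t = 1) (ht : ∀ m ∈ M, t * m = m * t)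
    (hnorm : ∀ x : MulAut S, t * x = x * t → ∀ m ∈ M, x * m * x⁻¹ ∈ M)
    (hcent : ∀ (x : MulAut S) (r : ℕ), r.Prime → r ≠ 2 → x ^ r = 1 → t * x = x * t →
      (∀ m ∈ M, x * m = m * x) → x = 1)
    (y : MulAut S) (hyM : y ∈ M) (hy1 : y ≠ 1)
    (hy : y ∈ Subgroup.closure {z | ∃ q ∈ inn S, q * y = y * q ∧ z = q * t * q⁻¹ * t⁻¹}) :
    Killed t := by
  classical
  intro κ _ x r hr hr2 hinj hx hx1 hc hct H hH
  let Ω := MulAut S ⧸ H
  -- the family with `t`
  let x' : Option κ → MulAut S := fun o => o.elim t x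
  let r' : Option κ → ℕ := fun o => o.elim 2 r
  have hr' : ∀ i, (r' i).Prime := by
    rintro (_ | i)
    · exact Nat.prime_two
    · exact hr i
  have hinj' : Function.Injective r' := by
    rintro (_ | i) (_ | j) h
    · rfl
    · exact absurd h.symm (hr2 j)
    · exact absurd h (hr2 i)
    · exact congrArg some (hinj h)
  have hx' : ∀ i, x' i ^ r' i = 1 := by
    rintro (_ | i)
    · show t ^ 2 = 1
      rw [pow_two, ht2]
    · exact hx i
  have hc' : ∀ i j, x' i * x' j = x' j * x' i := by
    rintro (_ | i) (_ | j)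
    · rfl
    · exact hct j
    · exact (hct i).symm
    · exact hc i j
  have hct' : ∀ i, t * x' i = x' i * t := by
    rintro (_ | i)
    · rfl
    · exact hct i
  have hnorm' : ∀ i, x' i ∈ Subgroup.normalizer (M : Set (MulAut S)) := by
    intro i
    rw [Subgroup.mem_normalizer_iff]
    intro m
    constructor
    · exact fun hm => hnorm _ (hct' i) m hm
    · intro hm
      have h1 : t * (x' i)⁻¹ = (x' i)⁻¹ * t := by
        have := hct' i
        calc t * (x' i)⁻¹ = (x' i)⁻¹ * (x' i * t) * (x' i)⁻¹ := by group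
          _ = (x' i)⁻¹ * (t * x' i) * (x' i)⁻¹ := by rw [this]
          _ = _ := by group
      have h2 := hnorm _ h1 _ hm
      have h3 : (x' i)⁻¹ * (x' i * m * (x' i)⁻¹) * (x' i)⁻¹⁻¹ = m := by group
      rwa [h3] at h2
  -- regular cycles for the induced automorphisms of `S'`
  have hRC' : ∀ g ∈ Subgroup.closure (Set.range x'), ∀ α : MulAut S',
      (∀ (m m' : M), (m' : MulAut S) = g * m * g⁻¹ → α (π m) = π m') → RCe S' α := by
    intro g hg α hα
    apply hRC
    -- an odd power of `g` times possibly `t` is trivial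
    have hcl : ∀ g ∈ Subgroup.closure (Set.range x'), ∃ (k : ℕ) (e : ℤ), Odd k ∧
        g ∈ Subgroup.normalizer (M : Set (MulAut S)) ∧ g ^ k = t ^ e := by
      haveI : Fintype κ := Fintype.ofFinite κ
      have hN : Odd (∏ i, r i) := by
        rw [← Nat.not_even_iff_odd, even_iff_two_dvd, Nat.prime_two.prime.dvd_finset_prod_iff]
        rintro ⟨i, -, h⟩
        exact hr2 i ((Nat.prime_dvd_prime_iff_eq Nat.prime_two (hr i)).1 h).symm
      intro g hg
      refine ⟨∏ i, r i, ?_⟩
      suffices hsuff : ∃ e : ℤ, g ∈ Subgroup.normalizer (M : Set (MulAut S)) ∧ g ^ (∏ i, r i) = t ^ e ∧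
          (∀ g' ∈ Subgroup.closure (Set.range x'), g * g' = g' * g) by
        obtain ⟨e, h1, h2, -⟩ := hsuff
        exact ⟨e, hN, h1, h2⟩
      have hcomm : ∀ g ∈ Subgroup.closure (Set.range x'), ∀ g' ∈ Subgroup.closure (Set.range x'),
          g * g' = g' * g := by
        intro g hg g' hg'
        induction hg using Subgroup.closure_induction with
        | mem a ha =>
          obtain ⟨i, rfl⟩ := ha
          induction hg' using Subgroup.closure_induction with
          | mem b hb =>
            obtain ⟨j, rfl⟩ := hb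
            exact hc' i j
          | one => simp
          | mul b c _ _ hb hc2 => rw [← mul_assoc, hb, mul_assoc, hc2, mul_assoc]
          | inv b _ hb =>
            calc x' i * b⁻¹ = b⁻¹ * (b * x' i) * b⁻¹ := by group
              _ = b⁻¹ * (x' i * b) * b⁻¹ := by rw [hb]
              _ = _ := by group
        | one => simp
        | mul a b _ _ ha hb => rw [mul_assoc, hb, ← mul_assoc, ha, mul_assoc]
        | inv a _ ha =>
          calc a⁻¹ * g' = a⁻¹ * (g' * a) * a⁻¹ := by group
            _ = a⁻¹ * (a * g') * a⁻¹ := by rw [ha]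
            _ = _ := by group
      have hmain : ∃ e : ℤ, g ^ (∏ i, r i) = t ^ e := by
        induction hg using Subgroup.closure_induction with
        | mem a ha =>
          obtain ⟨i, rfl⟩ := ha
          rcases i with _ | i
          · exact ⟨(∏ i, r i : ℕ), by rw [zpow_natCast]; rfl⟩
          · refine ⟨0, ?_⟩
            obtain ⟨c, hc⟩ := Finset.dvd_prod_of_mem r (Finset.mem_univ i)
            show x i ^ (∏ i, r i) = t ^ (0 : ℤ)
            rw [hc, pow_mul, hx, one_pow, zpow_zero]
        | one => exact ⟨0, by simp⟩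
        | mul a b ha' hb' ha hb =>
          obtain ⟨e, he⟩ := ha
          obtain ⟨f, hf⟩ := hb
          refine ⟨e + f, ?_⟩
          have h1 : Commute a b := hcomm a ha' b hb'
          rw [h1.mul_pow, he, hf, zpow_add]
        | inv a _ ha =>
          obtain ⟨e, he⟩ := ha
          exact ⟨-e, by rw [inv_pow, he, zpow_neg]⟩
      obtain ⟨e, he⟩ := hmain
      refine ⟨e, ?_, he, hcomm g hg⟩
      have : Subgroup.closure (Set.range x') ≤ Subgroup.normalizer (M : Set (MulAut S)) := by
        rw [Subgroup.closure_le]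
        rintro _ ⟨i, rfl⟩
        exact hnorm' i
      exact this hg
    obtain ⟨k, e, hk, hgN, hke⟩ := hcl g hg
    have hαk : α ^ k = 1 := by
      have h1 : ∀ n : ℕ, ∀ m : M, ∃ m' : M, (m' : MulAut S) = g ^ n * m * (g ^ n)⁻¹ ∧
          (α ^ n) (π m) = π m' := by
        intro n
        induction n with
        | zero => intro m; exact ⟨m, by simp, by simp⟩
        | succ n ih =>
          intro m
          obtain ⟨m', h1, h2⟩ := ih m
          have hm'' : g * (m' : MulAut S) * g⁻¹ ∈ M := norm_conj hgN m'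
          refine ⟨⟨g * m' * g⁻¹, hm''⟩, ?_, ?_⟩
          · show g * (m' : MulAut S) * g⁻¹ = _
            rw [h1, pow_succ']
            group
          · rw [pow_succ', MulAut.mul_apply, h2]
            exact hα _ _ rfl
      apply MulEquiv.ext
      intro s
      obtain ⟨m, rfl⟩ := hπ s
      obtain ⟨m', h2, h3⟩ := h1 k m
      rw [h3, MulAut.one_apply]
      congr 1
      apply Subtype.ext
      rw [h2, hke]
      have h4 : Commute t (m : MulAut S) := ht m m.2
      have h5 : Commute (t ^ e) (m : MulAut S) := h4.zpow_left e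
      rw [h5.eq, mul_inv_cancel_right]
    have hdvd := orderOf_dvd_of_pow_eq_one hαk
    obtain ⟨c, hc⟩ := hdvd
    rw [hc, Nat.odd_mul] at hk
    exact hk.1
  -- points
  have hpt : ∀ (z : MulAut S) (a : MulAut S), z • ((a : MulAut S) : Ω) = ((a : MulAut S) : Ω) ↔ a⁻¹ * z * a ∈ H := by
    intro z a
    rw [MulAction.Quotient.smul_coe, smul_eq_mul, QuotientGroup.eq]
    constructor
    · intro h
      have := H.inv_mem h
      have e : ((z * a)⁻¹ * a)⁻¹ = a⁻¹ * z * a := by group
      rwa [e] at this
    · intro h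
      have := H.inv_mem h
      have e : (a⁻¹ * z * a)⁻¹ = (z * a)⁻¹ * a := by group
      rwa [e] at this
  have hcov : ∀ n ∈ inn S, ∃ i, x' i • ((n : MulAut S) : Ω) = ((n : MulAut S) : Ω) := by
    intro n hn
    obtain ⟨s, hs⟩ := (inn S).inv_mem hn
    have hn' : n = (MulAut.conj s)⁻¹ := by rw [hs, inv_inv]
    rcases hH s with h1 | ⟨i, h1⟩
    · refine ⟨none, ?_⟩
      rw [hpt, hn', inv_inv]
      exact h1
    · refine ⟨some i, ?_⟩
      rw [hpt, hn', inv_inv]
      exact h1
  have hyi : y ∈ inn S := hMi hyM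
  apply inn_le_of_conj hS hyi hy1 H
  intro s
  by_contra hs
  -- the point
  set n₀ : MulAut S := (MulAut.conj s)⁻¹ with hn₀
  have hn₀i : n₀ ∈ inn S := (inn S).inv_mem ⟨s, rfl⟩
  have hyω : y • ((n₀ : MulAut S) : Ω) ≠ ((n₀ : MulAut S) : Ω) := by
    intro h
    rw [hpt, hn₀, inv_inv] at h
    exact hs h
  have key : ∀ q ∈ inn S, q * y = y * q → t • (q • ((n₀ : MulAut S) : Ω)) = q • ((n₀ : MulAut S) : Ω) := by
    intro q hq hqy
    have hmove : y • (q • ((n₀ : MulAut S) : Ω)) ≠ q • ((n₀ : MulAut S) : Ω) := by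
      intro h
      rw [← mul_smul, ← hqy, mul_smul] at h
      exact hyω (smul_left_cancel _ h)
    have h1 := mrule hS' hSn' x' r' hr' hinj' hx' hc' M hperf π hπ hker hnorm' hRC'
      (q • ((n₀ : MulAut S) : Ω)) (by
        intro m hm
        obtain ⟨i, hi⟩ := hcov (m * (q * n₀)) ((inn S).mul_mem (hMi hm) ((inn S).mul_mem hq hn₀i))
        refine ⟨i, ?_⟩
        have e : m • q • ((n₀ : MulAut S) : Ω) = ((m * (q * n₀) : MulAut S) : Ω) := by
          rw [MulAction.Quotient.smul_coe, MulAction.Quotient.smul_coe]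
          rfl
        rw [e]
        exact hi)
    rcases h1 with h1 | ⟨j, h1, h2⟩
    · exact absurd (h1 hyM) hmove
    · rcases j with _ | j
      · exact h2
      · exact absurd (hcent (x j) (r j) (hr j) (hr2 j) (hx j) (hct j) h1) (hx1 j)
  have hstab : Subgroup.closure {z | ∃ q ∈ inn S, q * y = y * q ∧ z = q * t * q⁻¹ * t⁻¹} ≤
      stabilizer (MulAut S) ((n₀ : MulAut S) : Ω) := by
    rw [Subgroup.closure_le]
    rintro _ ⟨q, hq, hqy, rfl⟩
    have h1 := key 1 (inn S).one_mem (by rw [one_mul, mul_one])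
    rw [one_smul] at h1
    have hqy' : q⁻¹ * y = y * q⁻¹ := by
      calc q⁻¹ * y = q⁻¹ * (y * q) * q⁻¹ := by group
        _ = q⁻¹ * (q * y) * q⁻¹ := by rw [hqy]
        _ = _ := by group
    have h2 := key q⁻¹ ((inn S).inv_mem hq) hqy'
    show (q * t * q⁻¹ * t⁻¹) • ((n₀ : MulAut S) : Ω) = ((n₀ : MulAut S) : Ω)
    have h3 : t⁻¹ • ((n₀ : MulAut S) : Ω) = ((n₀ : MulAut S) : Ω) := by
      rw [inv_smul_eq_iff, h1]
    rw [mul_smul, h3, mul_assoc, mul_smul, mul_smul, h2, smul_inv_smul]
  exact hyω (hstab hy)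

end rule

end Cfsg.Agent.H384.RC
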