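import Mathlib
import Cfsg.Agent.H384.RC.Core

/-!
# S3510 part B: assembly (helper384)
-/

set_option autoImplicit false
open MulAction

namespace Cfsg.Agent.H384.RC

open Cfsg.Agent.H106.RC

/-- a nontrivial element of finite order has a power of prime order -/
theorem exists_pow_prime {G : Type*} [Group G] [Finite G] {z : G} (hz : z ≠ 1) :
    ∃ (r : ℕ) (k : ℕ), r.Prime ∧ (z ^ k) ^ r = 1 ∧ z ^ k ≠ 1 := by
  have h1 : orderOf z ≠ 1 := fun h => hz (orderOf_eq_one_iff.1 h)
  obtain ⟨r, hr, k, hk⟩ := Nat.exists_prime_and_dvd h1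
  refine ⟨r, k, hr, ?_, ?_⟩
  · rw [← pow_mul, mul_comm, ← hk, pow_orderOf_eq_one]
  · intro h
    have h2 := orderOf_dvd_of_pow_eq_one h
    have h3 := orderOf_pos z
    rw [hk] at h2 h3
    have h4 : 0 < k := Nat.pos_of_ne_zero (by rintro rfl; simp at h3)
    have h5 := Nat.le_of_dvd h4 h2
    have := hr.two_le
    nlinarith

/-- in a cyclic group two elements of order dividing the prime `r`, the first nontrivial: the second
is a power of the first -/
theorem pow_eq_of_zpowers {G : Type*} [Group G] [Finite G] {g a b : G} {r : ℕ} (hr : r.Prime)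
    (ha : a ∈ Subgroup.zpowers g) (hb : b ∈ Subgroup.zpowers g) (ha1 : a ≠ 1) (har : a ^ r = 1)
    (hbr : b ^ r = 1) : b ∈ Subgroup.zpowers a := by
  classical
  haveI := Fact.mk hr
  have hoa : orderOf a = r := orderOf_eq_prime har ha1
  -- elements of exponent `r` in the cyclic group `⟨g⟩`
  haveI : Fintype (Subgroup.zpowers g) := Fintype.ofFinite _
  have h1 := IsCyclic.card_pow_eq_one_le (α := Subgroup.zpowers g) hr.pos
  let f : Subgroup.zpowers a → {z : Subgroup.zpowers g // z ^ r = 1} := fun z =>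
    ⟨⟨z, by
      have : Subgroup.zpowers a ≤ Subgroup.zpowers g := by
        rw [Subgroup.zpowers_le]; exact ha
      exact this z.2⟩, by
      apply Subtype.ext
      obtain ⟨k, hk⟩ := Subgroup.mem_zpowers_iff.1 z.2
      show (z : G) ^ r = 1
      rw [← hk, ← zpow_natCast, ← zpow_mul, mul_comm, zpow_mul, zpow_natCast, har, one_zpow]⟩
  have hf : Function.Injective f := by
    intro z w h
    apply Subtype.ext
    have := congrArg (fun t => ((t : {z : Subgroup.zpowers g // z ^ r = 1}).1 : G)) h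
    exact this
  have hcard : Nat.card {z : Subgroup.zpowers g // z ^ r = 1} ≤ Nat.card (Subgroup.zpowers a) := by
    rw [Nat.card_zpowers, hoa, Nat.card_eq_fintype_card, Fintype.card_subtype]
    exact h1
  have hsurj : Function.Surjective f := by
    have hbij := (Nat.bijective_iff_injective_and_card f).2 ⟨hf, le_antisymm
      (Nat.card_le_card_of_injective f hf) hcard⟩
    exact hbij.2
  obtain ⟨z, hz⟩ := hsurj ⟨⟨b, hb⟩, Subtype.ext hbr⟩
  have : (z : G) = b := by
    have := congrArg (fun t => ((t : {z : Subgroup.zpowers g // z ^ r = 1}).1 : G)) hz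
    exact this
  rw [← this]
  exact z.2

/-- assembly: `L` is a subgroup of index at most two -/
theorem rc_of_killed {S : Type*} [Group S] [Finite S] (L : Subgroup (MulAut S))
    (hL2 : ∀ a b : MulAut S, a ∉ L → b ∉ L → a * b ∈ L) (hL : ∀ g ∈ L, RCe S g)
    (hK : ∀ t : MulAut S, t ∉ L → t * t = 1 → Killed t) : RC S := by
  classical
  intro g
  by_cases hgL : g ∈ L
  · exact hL g hgL
  haveI : Finite (MulAut S) := Finite.of_injective (fun f : MulAut S => (f : S → S)) (by
    intro a b h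
    exact DFunLike.coe_injective h)
  intro H hH
  by_contra hcon
  push Not at hcon
  -- the prime parts
  have hdiv : ∀ r : ℕ, r ∣ orderOf g → r.Prime → ∃ x : MulAut S, x ∈ Subgroup.zpowers g ∧
      x ^ r = 1 ∧ x ≠ 1 := by
    intro r hr hrp
    obtain ⟨k, hk⟩ := hr
    refine ⟨g ^ k, Subgroup.pow_mem _ (Subgroup.mem_zpowers g) k, ?_, ?_⟩
    · rw [← pow_mul, mul_comm, ← hk, pow_orderOf_eq_one]
    · intro h
      have h2 := orderOf_dvd_of_pow_eq_one h
      have h3 := orderOf_pos g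
      rw [hk] at h2 h3
      have h4 : 0 < k := Nat.pos_of_ne_zero (by rintro rfl; simp at h3)
      have h5 := Nat.le_of_dvd h4 h2
      have := hrp.two_le
      nlinarith
  let P := {r : ℕ // r ∣ orderOf g ∧ r.Prime}
  haveI : Finite P := by
    apply Set.Finite.to_subtype
    apply (Set.finite_le_nat (orderOf g)).subset
    intro r hr
    exact Nat.le_of_dvd (orderOf_pos g) hr.1
  let x : P → MulAut S := fun r => (hdiv r.1 r.2.1 r.2.2).choose
  have hxg : ∀ r : P, x r ∈ Subgroup.zpowers g := fun r => (hdiv r.1 r.2.1 r.2.2).choose_spec.1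
  have hxr : ∀ r : P, x r ^ (r : ℕ) = 1 := fun r => (hdiv r.1 r.2.1 r.2.2).choose_spec.2.1
  have hx1 : ∀ r : P, x r ≠ 1 := fun r => (hdiv r.1 r.2.1 r.2.2).choose_spec.2.2
  have hxc : ∀ z ∈ Subgroup.zpowers g, ∀ w ∈ Subgroup.zpowers g, z * w = w * z := by
    intro z hz w hw
    obtain ⟨i, rfl⟩ := Subgroup.mem_zpowers_iff.1 hz
    obtain ⟨j, rfl⟩ := Subgroup.mem_zpowers_iff.1 hw
    rw [← zpow_add, ← zpow_add, add_comm]
  have hcov : ∀ s : S, ∃ r : P, MulAut.conj s * x r * (MulAut.conj s)⁻¹ ∈ H := by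
    intro s
    obtain ⟨z, hz, hzH, hz1⟩ := hcon s
    obtain ⟨r, k, hr, h1, h2⟩ := exists_pow_prime hz1
    have hzk : z ^ k ∈ Subgroup.zpowers g := Subgroup.pow_mem _ hz k
    have hrd : r ∣ orderOf g := by
      haveI := Fact.mk hr
      rw [← orderOf_eq_prime h1 h2]
      exact orderOf_dvd_of_mem_zpowers hzk
    refine ⟨⟨r, hrd, hr⟩, ?_⟩
    obtain ⟨j, hj⟩ := Subgroup.mem_zpowers_iff.1
      (pow_eq_of_zpowers hr hzk (hxg ⟨r, hrd, hr⟩) h2 h1 (hxr ⟨r, hrd, hr⟩))
    rw [← hj]
    have h3 : MulAut.conj s * z ^ k * (MulAut.conj s)⁻¹ ∈ H := by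
      rw [← conj_pow]
      exact H.pow_mem hzH k
    rw [← conj_zpow]
    exact H.zpow_mem h3 j
  -- odd order elements are in `L`
  have hodd : ∀ (z : MulAut S) (k : ℕ), Odd k → z ^ k = 1 → z ∈ L := by
    rintro z k ⟨j, rfl⟩ h
    by_contra hz
    have h1 : (z * z) ^ j ∈ L := L.pow_mem (hL2 z z hz hz) j
    have h2 : z = ((z * z) ^ j)⁻¹ := by
      rw [eq_inv_iff_mul_eq_one, ← pow_two, ← pow_mul, ← pow_succ']
      exact h
    rw [h2] at hz
    exact hz (L.inv_mem h1)
  by_cases h2 : 2 ∣ orderOf g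
  swap
  · apply hgL
    exact hodd g (orderOf g) (by
      rw [← Nat.not_even_iff_odd, even_iff_two_dvd]; exact h2) (pow_orderOf_eq_one g)
  let p2 : P := ⟨2, h2, Nat.prime_two⟩
  by_cases ht : x p2 ∈ L
  · -- everything is in `L`
    have hxL : ∀ r : P, x r ∈ L := by
      intro r
      by_cases hr : (r : ℕ) = 2
      · have : r = p2 := Subtype.ext hr
        rw [this]; exact ht
      · exact hodd _ _ (r.2.2.odd_of_ne_two hr) (hxr r)
    obtain ⟨g', hg'c, hg'⟩ := exists_gen x (fun r : P => (r : ℕ)) (fun r => r.2.2)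
      Subtype.val_injective hxr (fun i j => hxc _ (hxg i) _ (hxg j))
    have hg'L : g' ∈ L := by
      have : Subgroup.closure (Set.range x) ≤ L := by
        rw [Subgroup.closure_le]
        rintro _ ⟨r, rfl⟩
        exact hxL r
      exact this hg'c
    obtain ⟨s, hs⟩ := hL g' hg'L H hH
    obtain ⟨r, hr⟩ := hcov s
    exact hx1 r (hs _ (hg' r) hr)
  · have hKt := hK (x p2) ht (by rw [← pow_two]; exact hxr p2)
    apply hH
    -- odd primes
    let κ := {r : P // (r : ℕ) ≠ 2}
    refine hKt κ (fun r => x r.1) (fun r => (r.1 : ℕ)) (fun r => r.1.2.2) (fun r => r.2)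
      (fun a b h => Subtype.ext (Subtype.ext h)) (fun r => hxr r.1) (fun r => hx1 r.1)
      (fun i j => hxc _ (hxg _) _ (hxg _)) (fun i => hxc _ (hxg _) _ (hxg _)) H ?_
    intro s
    obtain ⟨r, hr⟩ := hcov s
    by_cases hr2 : (r : ℕ) = 2
    · left
      have : r = p2 := Subtype.ext hr2
      rw [this] at hr
      exact hr
    · exact Or.inr ⟨⟨r, hr2⟩, hr⟩

end Cfsg.Agent.H384.RC
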