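import Mathlib
import Cfsg.Agent.H384.RC.Asm
import Cfsg.Agent.H384.RC.Types
import Cfsg.Agent.H233.RC.Gamma
import Cfsg.Agent.H233.RC.Red
import Cfsg.Agent.H202.RC.LinFinal
import Cfsg.Agent.S0255
import Cfsg.Agent.S0256

/-!
# S3510: the row `PSL_n` (helper384), from the field statement and the row `PSL_2`
-/

set_option autoImplicit false

namespace Cfsg.Agent.H384.RC

open Matrix Cfsg
open Cfsg.Agent.H106.RC Cfsg.Agent.H202.RC

/-- `PSL_n(F)`, `n ≥ 3`, not `PSL_3(2)`, `PSL_4(2)` -/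
theorem rc_psl (hF : FieldStmt) {F : Type} [Field F] [Fintype F] {n : ℕ} (hn : 3 ≤ n)
    (h32 : ¬ (n = 3 ∧ Fintype.card F = 2))
    (hP : IsSimpleGroup (Matrix.ProjectiveSpecialLinearGroup (Fin n) F))
    (hPn : ¬ IsMulCommutative (Matrix.ProjectiveSpecialLinearGroup (Fin n) F))
    (hPE : ¬ Exc (Matrix.ProjectiveSpecialLinearGroup (Fin n) F))
    (hIH : IH (Nat.card (Matrix.ProjectiveSpecialLinearGroup (Fin n) F))) :
    RC (Matrix.ProjectiveSpecialLinearGroup (Fin n) F) := by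
  have h42 : ¬ (n = 4 ∧ Fintype.card F = 2) := by
    rintro ⟨rfl, h1⟩
    exact hPE (Or.inr (Or.inr (S0256.result h1)))
  have hfin : Finite (Matrix.ProjectiveSpecialLinearGroup (Fin n) F) :=
    Quotient.finite (QuotientGroup.leftRel _)
  refine rc_of_killed (gammaPSL n F)
    (fun a b ha hb => Cfsg.Agent.H233.RC.gamma_index (by omega) (fun h => by omega) ha hb)
    (fun g hg => rce_gamma hF no_lin hn hP hPn hPE hIH hg)
    (fun t ht ht2 => killed_dual hn (types hn h42 h32 hIH) t ht ht2)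

/-- **the row `PSL_n`** -/
theorem row_isPSL (hF : FieldStmt)
    (hC : Row (fun S _ => ∃ (F : Type) (_ : Field F) (_ : Fintype F), 4 ≤ Fintype.card F ∧
      Nonempty (S ≃* Matrix.ProjectiveSpecialLinearGroup (Fin 2) F))) :
    Row (fun S _ => IsPSL S) := by
  intro S _ _ hS hSn hPSL hExc hIH
  obtain ⟨F, hFi, hFt, n, hn2, hn4, ⟨eS⟩⟩ := hPSL
  by_cases hn : n = 2
  · subst hn
    exact hC S hS hSn ⟨F, hFi, hFt, hn4 rfl, ⟨eS⟩⟩ hExc hIH
  by_cases h32 : n = 3 ∧ Fintype.card F = 2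
  · obtain ⟨rfl, h2⟩ := h32
    have : Fact (Nat.Prime 7) := ⟨by norm_num⟩
    obtain ⟨e⟩ := S0255.result (F := ZMod 7) (K := F) (ZMod.card 7) h2
    exact hC S hS hSn ⟨ZMod 7, inferInstance, inferInstance, by rw [ZMod.card]; norm_num,
      ⟨eS.trans e.symm⟩⟩ hExc hIH
  have hn3 : 3 ≤ n := by omega
  have hcard : Nat.card (Matrix.ProjectiveSpecialLinearGroup (Fin n) F) = Nat.card S :=
    Nat.card_congr eS.symm.toEquiv
  have hP : IsSimpleGroup (Matrix.ProjectiveSpecialLinearGroup (Fin n) F) := isSimple_cgr eS hS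
  have hPn : ¬ IsMulCommutative (Matrix.ProjectiveSpecialLinearGroup (Fin n) F) :=
    notComm_cgr eS hSn
  have hPE : ¬ Exc (Matrix.ProjectiveSpecialLinearGroup (Fin n) F) := by
    intro h
    apply hExc
    rcases h with ⟨⟨e⟩⟩ | ⟨⟨e⟩⟩ | ⟨⟨e⟩⟩
    · exact Or.inl ⟨eS.trans e⟩
    · exact Or.inr (Or.inl ⟨eS.trans e⟩)
    · exact Or.inr (Or.inr ⟨eS.trans e⟩)
  rw [← hcard] at hIH
  exact (rc_psl hF hn3 h32 hP hPn hPE hIH).congr eS.symm

end Cfsg.Agent.H384.RC
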