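import Mathlib
import Cfsg.Agent.H384.RC.RowB
import Cfsg.Agent.H930.RC.F42
import Cfsg.Agent.H183.RC.Main

/-!
# S3510: the row `PSL_n`, unconditional (helper384)
-/

set_option autoImplicit false

namespace Cfsg.Agent.H384.RC

open Matrix Cfsg
open Cfsg.Agent.H106.RC Cfsg.Agent.H202.RC

/-- **the row `PSL_n`, all `n ≥ 2`** -/
theorem row_psl_all : Row (fun S _ => IsPSL S) := by
  refine row_isPSL (Cfsg.Agent.H930.RC.fieldStmt no_lin) ?_
  intro S _ _ _ _ hS hE hIH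
  obtain ⟨F, _, _, h4, ⟨e⟩⟩ := hS
  exact Cfsg.Agent.H183.RC.rc_psl2 hE hIH (by rw [Nat.card_eq_fintype_card]; exact h4) e

end Cfsg.Agent.H384.RC
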