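import Mathlib
import Cfsg.Agent.H384.RC.Core

/-!
# S3510 part B: family versions of the rules (helper384)

`Fam t x r` : commuting elements `x i` of distinct odd primes orders `r i` commuting with `t`.
`CovH t x H`: every conjugate under `Inn S` of one of `t`, `x i` is in `H`, i.e. every point of the
`Inn S`-orbit of the base point of `Aut S ⧸ H` is fixed by `t` or some `x i`.
-/

set_option autoImplicit false
open MulAction

namespace Cfsg.Agent.H384.RC

open Cfsg.Agent.H106.RC

variable {S : Type*} [Group S]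

/-- commuting elements of distinct odd prime orders commuting with `t` -/
structure Fam (t : MulAut S) {κ : Type} (x : κ → MulAut S) (r : κ → ℕ) : Prop where
  pr : ∀ i, (r i).Prime
  ne2 : ∀ i, r i ≠ 2
  inj : Function.Injective r
  pow : ∀ i, x i ^ r i = 1
  ne1 : ∀ i, x i ≠ 1
  comm : ∀ i j, x i * x j = x j * x i
  commt : ∀ i, t * x i = x i * t

/-- the cover condition -/
def CovH (t : MulAut S) {κ : Type} (x : κ → MulAut S) (H : Subgroup (MulAut S)) : Prop :=
  ∀ s : S, MulAut.conj s * t * (MulAut.conj s)⁻¹ ∈ H ∨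
    ∃ i, MulAut.conj s * x i * (MulAut.conj s)⁻¹ ∈ H

theorem killed_iff (t : MulAut S) : Killed t ↔ ∀ (κ : Type) [Finite κ] (x : κ → MulAut S)
    (r : κ → ℕ), Fam t x r → ∀ H, CovH t x H → inn S ≤ H := by
  constructor
  · intro h κ _ x r hF H hH
    exact h κ x r hF.pr hF.ne2 hF.inj hF.pow hF.ne1 hF.comm hF.commt H hH
  · intro h κ _ x r h1 h2 h3 h4 h5 h6 h7 H hH
    exact h κ x r ⟨h1, h2, h3, h4, h5, h6, h7⟩ H hH

theorem smul_coe_iff {A : Type*} [Group A] {H : Subgroup A} (z a : A) :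
    z • ((a : A) : A ⧸ H) = ((a : A) : A ⧸ H) ↔ a⁻¹ * z * a ∈ H := by
  rw [MulAction.Quotient.smul_coe, smul_eq_mul, QuotientGroup.eq]
  constructor
  · intro h
    have := H.inv_mem h
    have e : ((z * a)⁻¹ * a)⁻¹ = a⁻¹ * z * a := by group
    rwa [e] at this
  · intro h
    have := H.inv_mem h
    have e : (a⁻¹ * z * a)⁻¹ = (z * a)⁻¹ * a := by group
    rwa [e] at this

/-- the cover condition on points -/
theorem CovH.pt {t : MulAut S} {κ : Type} {x : κ → MulAut S} {H : Subgroup (MulAut S)}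
    (h : CovH t x H) : ∀ n ∈ inn S, t • ((n : MulAut S) : MulAut S ⧸ H) = (n : MulAut S) ∨
      ∃ i, x i • ((n : MulAut S) : MulAut S ⧸ H) = (n : MulAut S) := by
  intro n hn
  obtain ⟨s, hs⟩ := (inn S).inv_mem hn
  have hn' : n = (MulAut.conj s)⁻¹ := by rw [hs, inv_inv]
  rcases h s with h1 | ⟨i, h1⟩
  · left
    rw [smul_coe_iff, hn', inv_inv]
    exact h1
  · right
    refine ⟨i, ?_⟩
    rw [smul_coe_iff, hn', inv_inv]
    exact h1

/-- if some `1 ≠ y ∈ Inn S` fixes all points of the orbit -/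
theorem inn_le_of_fix (hS : IsSimpleGroup S) {y : MulAut S} (hy : y ∈ inn S) (hy1 : y ≠ 1)
    (H : Subgroup (MulAut S)) (h : ∀ n ∈ inn S, y • ((n : MulAut S) : MulAut S ⧸ H) = (n : MulAut S)) :
    inn S ≤ H := by
  apply inn_le_of_conj hS hy hy1 H
  intro s
  have h1 := h _ ((inn S).inv_mem ⟨s, rfl⟩)
  rw [smul_coe_iff, inv_inv] at h1
  exact h1

/-- the root element rule: `Q` any subset of `Inn S` commuting with `y`, and every point moved by
`y` is fixed by `t`; `y` in the group generated by the `[q, t]`, `q ∈ Q` -/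
theorem fam_root (hS : IsSimpleGroup S) (t : MulAut S) (H : Subgroup (MulAut S)) (y : MulAut S)
    (hyi : y ∈ inn S) (hy1 : y ≠ 1)
    (hM : ∀ n ∈ inn S, y • ((n : MulAut S) : MulAut S ⧸ H) = (n : MulAut S) ∨
      t • ((n : MulAut S) : MulAut S ⧸ H) = (n : MulAut S))
    (hy : y ∈ Subgroup.closure {z | ∃ q ∈ inn S, q * y = y * q ∧ z = q * t * q⁻¹ * t⁻¹}) :
    inn S ≤ H := by
  apply inn_le_of_fix hS hyi hy1 H
  intro n₀ hn₀i
  by_contra hyω
  have key : ∀ q ∈ inn S, q * y = y * q →
      t • (q • ((n₀ : MulAut S) : MulAut S ⧸ H)) = q • ((n₀ : MulAut S) : MulAut S ⧸ H) := by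
    intro q hq hqy
    have hmove : y • (q • ((n₀ : MulAut S) : MulAut S ⧸ H)) ≠ q • ((n₀ : MulAut S) : MulAut S ⧸ H) := by
      intro h
      rw [← mul_smul, ← hqy, mul_smul] at h
      exact hyω (smul_left_cancel _ h)
    rcases hM (q * n₀) ((inn S).mul_mem hq hn₀i) with h | h
    · exact absurd h hmove
    · exact h
  have hstab : Subgroup.closure {z | ∃ q ∈ inn S, q * y = y * q ∧ z = q * t * q⁻¹ * t⁻¹} ≤
      stabilizer (MulAut S) ((n₀ : MulAut S) : MulAut S ⧸ H) := by
    rw [Subgroup.closure_le]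
    rintro _ ⟨q, hq, hqy, rfl⟩
    have h1 := key 1 (inn S).one_mem (by rw [one_mul, mul_one])
    rw [one_smul] at h1
    have hqy' : q⁻¹ * y = y * q⁻¹ := by
      calc q⁻¹ * y = q⁻¹ * (y * q) * q⁻¹ := by group
        _ = q⁻¹ * (q * y) * q⁻¹ := by rw [hqy]
        _ = _ := by group
    have h2 := key q⁻¹ ((inn S).inv_mem hq) hqy'
    show (q * t * q⁻¹ * t⁻¹) • ((n₀ : MulAut S) : MulAut S ⧸ H) = ((n₀ : MulAut S) : MulAut S ⧸ H)
    have h3 : t⁻¹ • ((n₀ : MulAut S) : MulAut S ⧸ H) = ((n₀ : MulAut S) : MulAut S ⧸ H) := by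
      rw [inv_smul_eq_iff, h1]
    rw [mul_smul, h3, mul_assoc, mul_smul, mul_smul, h2, smul_inv_smul]
  exact hyω (hstab hy)

/-- the induced automorphisms have odd order if `t` centralises `M` -/
theorem odd_ind {S' : Type*} [Group S'] {κ : Type} [Finite κ] {t : MulAut S}
    {x : κ → MulAut S} {r : κ → ℕ} (hF : Fam t x r) (M : Subgroup (MulAut S)) (π : M →* S')
    (hπ : Function.Surjective π) (ht : ∀ m ∈ M, t * m = m * t)
    (hnorm : ∀ i, ∀ m ∈ M, x i * m * (x i)⁻¹ ∈ M)
    (g : MulAut S) (hg : g ∈ Subgroup.closure (Set.range fun o : Option κ => o.elim t x))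
    (α : MulAut S') (hα : ∀ (m m' : M), (m' : MulAut S) = g * m * g⁻¹ → α (π m) = π m') :
    Odd (orderOf α) := by
  classical
  have := Fintype.ofFinite κ
  have hN : Odd (∏ i, r i) := by
    rw [← Nat.not_even_iff_odd, even_iff_two_dvd, Nat.prime_two.prime.dvd_finsetProd_iff]
    rintro ⟨i, -, h⟩
    exact hF.ne2 i ((Nat.prime_dvd_prime_iff_eq Nat.prime_two (hF.pr i)).1 h).symm
  have hc' : ∀ i j : Option κ, (fun o : Option κ => o.elim t x) i * (fun o : Option κ => o.elim t x) j =
      (fun o : Option κ => o.elim t x) j * (fun o : Option κ => o.elim t x) i := by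
    rintro (_ | i) (_ | j)
    · rfl
    · exact hF.commt j
    · exact (hF.commt i).symm
    · exact hF.comm i j
  have hcomm : ∀ g ∈ Subgroup.closure (Set.range fun o : Option κ => o.elim t x),
      ∀ g' ∈ Subgroup.closure (Set.range fun o : Option κ => o.elim t x), g * g' = g' * g := by
    intro g hg g' hg'
    induction hg using Subgroup.closure_induction with
    | mem a ha =>
      obtain ⟨i, rfl⟩ := ha
      induction hg' using Subgroup.closure_induction with
      | mem b hb =>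
        obtain ⟨j, rfl⟩ := hb
        exact hc' i j
      | one => simp
      | mul b c _ _ hb hc2 => rw [← mul_assoc, hb, mul_assoc, hc2, mul_assoc]
      | inv b _ hb =>
        generalize (fun o : Option κ => o.elim t x) i = X at hb ⊢
        calc X * b⁻¹ = b⁻¹ * (b * X) * b⁻¹ := by group
          _ = b⁻¹ * (X * b) * b⁻¹ := by rw [hb]
          _ = _ := by group
    | one => simp
    | mul a b _ _ ha hb => rw [mul_assoc, hb, ← mul_assoc, ha, mul_assoc]
    | inv a _ ha =>
      calc a⁻¹ * g' = a⁻¹ * (g' * a) * a⁻¹ := by group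
        _ = a⁻¹ * (a * g') * a⁻¹ := by rw [ha]
        _ = _ := by group
  have hmain : ∀ g ∈ Subgroup.closure (Set.range fun o : Option κ => o.elim t x),
      (∀ m ∈ M, g * m * g⁻¹ ∈ M) ∧ ∃ e : ℤ, g ^ (∏ i, r i) = t ^ e := by
    have hN' : ∀ g ∈ Subgroup.closure (Set.range fun o : Option κ => o.elim t x),
        ∃ e : ℤ, g ^ (∏ i, r i) = t ^ e := by
      intro g hg
      induction hg using Subgroup.closure_induction with
      | mem a ha =>
        obtain ⟨i, rfl⟩ := ha
        rcases i with _ | i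
        · exact ⟨(∏ i, r i : ℕ), by rw [zpow_natCast]; rfl⟩
        · refine ⟨0, ?_⟩
          obtain ⟨c, hc⟩ := Finset.dvd_prod_of_mem r (Finset.mem_univ i)
          show x i ^ (∏ i, r i) = t ^ (0 : ℤ)
          rw [hc, pow_mul, hF.pow, one_pow, zpow_zero]
      | one => exact ⟨0, by simp⟩
      | mul a b ha' hb' ha hb =>
        obtain ⟨e, he⟩ := ha
        obtain ⟨f, hf⟩ := hb
        refine ⟨e + f, ?_⟩
        have h1 : Commute a b := hcomm a ha' b hb'
        rw [h1.mul_pow, he, hf, zpow_add]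
      | inv a _ ha =>
        obtain ⟨e, he⟩ := ha
        exact ⟨-e, by rw [inv_pow, he, zpow_neg]⟩
    have hnc : ∀ o : Option κ, (fun o : Option κ => o.elim t x) o ∈
        Subgroup.normalizer (M : Set (MulAut S)) := by
      have h0 : ∀ z : MulAut S, (∃ k : ℕ, 0 < k ∧ z ^ k = 1) → (∀ m ∈ M, z * m * z⁻¹ ∈ M) →
          z ∈ Subgroup.normalizer (M : Set (MulAut S)) := by
        rintro z ⟨k, hk, hz⟩ h
        rw [Subgroup.mem_normalizer_iff]
        have hpow : ∀ j : ℕ, ∀ m ∈ M, z ^ j * m * (z ^ j)⁻¹ ∈ M := by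
          intro j
          induction j with
          | zero => intro m hm; simpa using hm
          | succ j ih =>
            intro m hm
            have e : z ^ (j + 1) * m * (z ^ (j + 1))⁻¹ = z * (z ^ j * m * (z ^ j)⁻¹) * z⁻¹ := by
              rw [pow_succ']; group
            rw [e]
            exact h _ (ih m hm)
        intro m
        refine ⟨h m, fun hm => ?_⟩
        have h1 := hpow (k - 1) _ hm
        have e : z ^ (k - 1) * z = 1 := by
          rw [← pow_succ, Nat.sub_add_cancel hk, hz]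
        have e2 : z ^ (k - 1) = z⁻¹ := eq_inv_of_mul_eq_one_left e
        rw [e2] at h1
        have e3 : z⁻¹ * (z * m * z⁻¹) * z⁻¹⁻¹ = m := by group
        rwa [e3] at h1
      rintro (_ | i)
      · rw [Subgroup.mem_normalizer_iff]
        intro m
        have h2 : ∀ m ∈ M, t * m * t⁻¹ = m := fun m hm => by rw [ht m hm, mul_inv_cancel_right]
        constructor
        · intro hm
          show t * m * t⁻¹ ∈ M
          rw [h2 m hm]; exact hm
        · intro hm
          have h3 := h2 _ hm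
          have h4 : (t * m * t⁻¹) = m := by
            have h5 : t * (t * m * t⁻¹) = (t * m * t⁻¹) * t := ht _ hm
            have h6 : t * (t * m * t⁻¹) = t * m := by
              rw [h5]; group
            exact mul_left_cancel h6
          rw [← h4]; exact hm
      · exact h0 _ ⟨r i, (hF.pr i).pos, hF.pow i⟩ (hnorm i)
    intro g hg
    refine ⟨fun m hm => ?_, hN' g hg⟩
    have : Subgroup.closure (Set.range fun o : Option κ => o.elim t x) ≤
        Subgroup.normalizer (M : Set (MulAut S)) := by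
      rw [Subgroup.closure_le]
      rintro _ ⟨i, rfl⟩
      exact hnc i
    exact (Subgroup.mem_normalizer_iff.1 (this hg) m).1 hm
  obtain ⟨hgN, e, hke⟩ := hmain g hg
  have hαk : α ^ (∏ i, r i) = 1 := by
    have h1 : ∀ n : ℕ, ∀ m : M, ∃ m' : M, (m' : MulAut S) = g ^ n * m * (g ^ n)⁻¹ ∧
        (α ^ n) (π m) = π m' := by
      intro n
      induction n with
      | zero => intro m; exact ⟨m, by simp, by simp⟩
      | succ n ih =>
        intro m
        obtain ⟨m', h1, h2⟩ := ih m
        have hm'' : g * (m' : MulAut S) * g⁻¹ ∈ M := hgN m' m'.2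
        refine ⟨⟨g * m' * g⁻¹, hm''⟩, ?_, ?_⟩
        · show g * (m' : MulAut S) * g⁻¹ = _
          rw [h1, pow_succ']
          group
        · rw [pow_succ', MulAut.mul_apply, h2]
          exact hα _ _ rfl
    apply MulEquiv.ext
    intro s
    obtain ⟨m, rfl⟩ := hπ s
    obtain ⟨m', h2, h3⟩ := h1 (∏ i, r i) m
    rw [h3, MulAut.one_apply]
    congr 1
    apply Subtype.ext
    rw [h2, hke]
    have h4 : Commute t (m : MulAut S) := ht m m.2
    have h5 : Commute (t ^ e) (m : MulAut S) := h4.zpow_left e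
    rw [h5.eq, mul_inv_cancel_right]
  have hdvd := orderOf_dvd_of_pow_eq_one hαk
  obtain ⟨c, hc⟩ := hdvd
  rw [hc, Nat.odd_mul] at hN
  exact hN.1

/-- **M-rule for families** -/
theorem fam_M {S' : Type*} [Group S'] {κ : Type} [Finite κ] {t : MulAut S}
    {x : κ → MulAut S} {r : κ → ℕ} (hF : Fam t x r) (ht2 : t * t = 1) {H : Subgroup (MulAut S)}
    (hcov : CovH t x H)
    (hS' : IsSimpleGroup S') (hSn' : ¬ IsMulCommutative S') (M : Subgroup (MulAut S))
    (hMi : M ≤ inn S) (hperf : ⁅M, M⁆ = M) (π : M →* S') (hπ : Function.Surjective π)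
    (hker : π.ker ≤ Subgroup.center M)
    (hnorm : ∀ i, x i ∈ Subgroup.normalizer (M : Set (MulAut S)))
    (hnt : t ∈ Subgroup.normalizer (M : Set (MulAut S)))
    (hRC : ∀ g ∈ Subgroup.closure (Set.range fun o : Option κ => o.elim t x), ∀ α : MulAut S',
      (∀ (m m' : M), (m' : MulAut S) = g * m * g⁻¹ → α (π m) = π m') → RCe S' α)
    (hcent : ∀ i, ¬ ∀ m ∈ M, x i * m = m * x i) :
    ∀ n ∈ inn S, M ≤ stabilizer (MulAut S) ((n : MulAut S) : MulAut S ⧸ H) ∨
      ((∀ m ∈ M, t * m = m * t) ∧ t • ((n : MulAut S) : MulAut S ⧸ H) = (n : MulAut S)) := by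
  intro n hn
  have hr' : ∀ i, ((fun o : Option κ => o.elim 2 r) i).Prime := by
    rintro (_ | i)
    · exact Nat.prime_two
    · exact hF.pr i
  have hinj' : Function.Injective (fun o : Option κ => o.elim 2 r) := by
    rintro (_ | i) (_ | j) h
    · rfl
    · exact absurd h.symm (hF.ne2 j)
    · exact absurd h (hF.ne2 i)
    · exact congrArg some (hF.inj h)
  have hx' : ∀ i, (fun o : Option κ => o.elim t x) i ^ (fun o : Option κ => o.elim 2 r) i = 1 := by
    rintro (_ | i)
    · show t ^ 2 = 1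
      rw [pow_two, ht2]
    · exact hF.pow i
  have hc' : ∀ i j : Option κ, (fun o : Option κ => o.elim t x) i * (fun o : Option κ => o.elim t x) j =
      (fun o : Option κ => o.elim t x) j * (fun o : Option κ => o.elim t x) i := by
    rintro (_ | i) (_ | j)
    · rfl
    · exact hF.commt j
    · exact (hF.commt i).symm
    · exact hF.comm i j
  have hnorm' : ∀ i, (fun o : Option κ => o.elim t x) i ∈
      Subgroup.normalizer (M : Set (MulAut S)) := by
    rintro (_ | i)
    · exact hnt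
    · exact hnorm i
  have h1 := mrule hS' hSn' (fun o : Option κ => o.elim t x) (fun o : Option κ => o.elim 2 r)
    hr' hinj' hx' hc' M hperf π hπ hker hnorm' hRC
    ((n : MulAut S) : MulAut S ⧸ H) (by
      intro m hm
      have e : m • ((n : MulAut S) : MulAut S ⧸ H) = ((m * n : MulAut S) : MulAut S ⧸ H) := rfl
      rw [e]
      rcases hcov.pt (m * n) ((inn S).mul_mem (hMi hm) hn) with h | ⟨i, h⟩
      · exact ⟨none, h⟩
      · exact ⟨some i, h⟩)
  rcases h1 with h1 | ⟨j, h1, h2⟩
  · exact Or.inl h1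
  · rcases j with _ | j
    · exact Or.inr ⟨h1, h2⟩
    · exact absurd h1 (hcent j)

/-- `J` empty: nobody centralises `M` -/
theorem fam_M_none {S' : Type*} [Group S'] (hS : IsSimpleGroup S) {κ : Type} [Finite κ]
    {t : MulAut S} {x : κ → MulAut S} {r : κ → ℕ} (hF : Fam t x r) (ht2 : t * t = 1)
    {H : Subgroup (MulAut S)} (hcov : CovH t x H)
    (hS' : IsSimpleGroup S') (hSn' : ¬ IsMulCommutative S') (M : Subgroup (MulAut S))
    (hMi : M ≤ inn S) (hperf : ⁅M, M⁆ = M) (π : M →* S') (hπ : Function.Surjective π)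
    (hker : π.ker ≤ Subgroup.center M)
    (hnorm : ∀ i, x i ∈ Subgroup.normalizer (M : Set (MulAut S)))
    (hnt : t ∈ Subgroup.normalizer (M : Set (MulAut S)))
    (hRC : RC S')
    (hcent : ∀ i, ¬ ∀ m ∈ M, x i * m = m * x i) (htc : ¬ ∀ m ∈ M, t * m = m * t) :
    inn S ≤ H := by
  have h := fam_M hF ht2 hcov hS' hSn' M hMi hperf π hπ hker hnorm hnt (fun _ _ α _ => hRC α) hcent
  have hne : ∃ y ∈ M, y ≠ 1 := by
    by_contra hno
    push Not at hno
    apply htc
    intro m hm
    rw [hno m hm, mul_one, one_mul]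
  obtain ⟨y, hy, hy1⟩ := hne
  apply inn_le_of_fix hS (hMi hy) hy1 H
  intro n hn
  rcases h n hn with h | h
  · exact h hy
  · exact absurd h.1 htc

/-- the main rule for families: `t` centralises `M`, root element `y` -/
theorem fam_main {S' : Type*} [Group S'] (hS : IsSimpleGroup S) {κ : Type} [Finite κ]
    {t : MulAut S} {x : κ → MulAut S} {r : κ → ℕ} (hF : Fam t x r) (ht2 : t * t = 1)
    {H : Subgroup (MulAut S)} (hcov : CovH t x H)
    (hS' : IsSimpleGroup S') (hSn' : ¬ IsMulCommutative S') (M : Subgroup (MulAut S))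
    (hMi : M ≤ inn S) (hperf : ⁅M, M⁆ = M) (π : M →* S') (hπ : Function.Surjective π)
    (hker : π.ker ≤ Subgroup.center M)
    (ht : ∀ m ∈ M, t * m = m * t)
    (hnorm : ∀ i, x i ∈ Subgroup.normalizer (M : Set (MulAut S)))
    (hRC : RCo S')
    (hcent : ∀ i, ¬ ∀ m ∈ M, x i * m = m * x i)
    (y : MulAut S) (hyM : y ∈ M) (hy1 : y ≠ 1)
    (hy : y ∈ Subgroup.closure {z | ∃ q ∈ inn S, q * y = y * q ∧ z = q * t * q⁻¹ * t⁻¹}) :
    inn S ≤ H := by
  have hnt : t ∈ Subgroup.normalizer (M : Set (MulAut S)) := by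
    have h2 : ∀ m ∈ M, t * m * t⁻¹ = m := fun m hm => by rw [ht m hm, mul_inv_cancel_right]
    rw [Subgroup.mem_normalizer_iff]
    intro m
    constructor
    · intro hm
      show t * m * t⁻¹ ∈ M
      rw [h2 m hm]; exact hm
    · intro hm
      have h5 : t * (t * m * t⁻¹) = (t * m * t⁻¹) * t := ht _ hm
      have h6 : t * (t * m * t⁻¹) = t * m := by
        rw [h5]; group
      rw [← mul_left_cancel h6]; exact hm
  have h := fam_M hF ht2 hcov hS' hSn' M hMi hperf π hπ hker hnorm hnt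
    (fun g hg α hα => hRC α (odd_ind hF M π hπ ht
      (fun i m hm => (Subgroup.mem_normalizer_iff.1 (hnorm i) m).1 hm) g hg α hα)) hcent
  refine fam_root hS t H y (hMi hyM) hy1 ?_ hy
  intro n hn
  rcases h n hn with h | h
  · exact Or.inl (h hyM)
  · exact Or.inr h.2

/-- one odd prime only: `x` itself is replaced by its normal closure in the centraliser of `t` -/
theorem fam_one (hS : IsSimpleGroup S) {κ : Type} {t : MulAut S} {x : κ → MulAut S}
    {H : Subgroup (MulAut S)} (hcov : CovH t x H) (i₀ : κ) (hκ : ∀ i, i = i₀)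
    (y : MulAut S) (hyi : y ∈ inn S) (hy1 : y ≠ 1)
    (hyM : y ∈ Subgroup.closure {z | ∃ c ∈ inn S, c * t = t * c ∧ z = c * x i₀ * c⁻¹})
    (hy : y ∈ Subgroup.closure {z | ∃ q ∈ inn S, q * y = y * q ∧ z = q * t * q⁻¹ * t⁻¹}) :
    inn S ≤ H := by
  refine fam_root hS t H y hyi hy1 ?_ hy
  intro n hn
  by_cases htn : t • ((n : MulAut S) : MulAut S ⧸ H) = (n : MulAut S)
  · exact Or.inr htn
  left
  have hle : Subgroup.closure {z | ∃ c ∈ inn S, c * t = t * c ∧ z = c * x i₀ * c⁻¹} ≤
      stabilizer (MulAut S) ((n : MulAut S) : MulAut S ⧸ H) := by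
    rw [Subgroup.closure_le]
    rintro _ ⟨c, hc, hct, rfl⟩
    have h1 := hcov.pt (c⁻¹ * n) ((inn S).mul_mem ((inn S).inv_mem hc) hn)
    have e : ((c⁻¹ * n : MulAut S) : MulAut S ⧸ H) = c⁻¹ • ((n : MulAut S) : MulAut S ⧸ H) := rfl
    rw [e] at h1
    rcases h1 with h1 | ⟨i, h1⟩
    · exfalso
      apply htn
      have h2 : c⁻¹ * t = t * c⁻¹ := by
        calc c⁻¹ * t = c⁻¹ * (t * c) * c⁻¹ := by group
          _ = c⁻¹ * (c * t) * c⁻¹ := by rw [hct]
          _ = _ := by group
      rw [← mul_smul, ← h2, mul_smul] at h1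
      exact smul_left_cancel _ h1
    · rw [hκ i] at h1
      show (c * x i₀ * c⁻¹) • ((n : MulAut S) : MulAut S ⧸ H) = (n : MulAut S)
      rw [mul_smul, mul_smul, h1, smul_inv_smul]
  exact hle hyM

end Cfsg.Agent.H384.RC
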