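import Mathlib
import Cfsg.Agent.H384.RC.Fam
import Cfsg.Agent.H999.PslGraph
import Cfsg.Agent.H199.PslAut

/-!
# S3510 part B: semilinear automorphisms of `PSL` on an arbitrary index type (helper384)

`Sem A σ` is the automorphism `s ↦ A σ(s) A⁻¹`, `gam B` (H999) is `s ↦ B⁻¹ s⁻ᵀ B`.
-/

set_option autoImplicit false

namespace Cfsg.Agent.H384.RC

open Matrix
open Cfsg.Agent.ClassicalGeometry.AutPSL.Root
open Cfsg.Agent.ClassicalGeometry.AutPSL.Auto
open Cfsg.Agent.ClassicalGeometry.AutPSL.Main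
open Cfsg.Agent.H999.PslGraph

section basic

variable {ι F : Type*} [Fintype ι] [DecidableEq ι] [Field F]

/-- a ring automorphism applied to the entries -/
def mg (σ : F ≃+* F) : GL ι F →* GL ι F := Matrix.GeneralLinearGroup.map (σ : F →+* F)

theorem coe_mg (σ : F ≃+* F) (g : GL ι F) :
    (mg σ g : Matrix ι ι F) = (g : Matrix ι ι F).map σ := rfl

/-- the semilinear automorphism `s ↦ A σ(s) A⁻¹` -/
noncomputable def Sem (A : GL ι F) (σ : F ≃+* F) :
    MulAut (Matrix.ProjectiveSpecialLinearGroup ι F) := Cj A * lift (fld σ)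

theorem fld_Cj (σ : F ≃+* F) (g : GL ι F) : lift (fld σ) * Cj g = Cj (mg σ g) * lift (fld σ) := by
  apply MulEquiv.ext
  intro x
  obtain ⟨x, rfl⟩ := pr_surjective x
  change pr (fld σ (cj g x)) = pr (cj (mg σ g) (fld σ x))
  congr 1
  apply Subtype.ext
  change ((g : Matrix ι ι F) * x.1 * ((g⁻¹ : GL ι F) : Matrix ι ι F)).map (σ : F →+* F) =
    (g : Matrix ι ι F).map (σ : F →+* F) * x.1.map (σ : F →+* F) *
      (((mg σ g)⁻¹ : GL ι F) : Matrix ι ι F)
  rw [Matrix.map_mul, Matrix.map_mul, ← map_inv]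
  rfl

theorem fld_It (σ : F ≃+* F) : (lift (fld σ) * It : MulAut (Matrix.ProjectiveSpecialLinearGroup ι F)) =
    It * lift (fld σ) := by
  apply MulEquiv.ext
  intro x
  obtain ⟨x, rfl⟩ := pr_surjective x
  change pr (fld σ (itr x)) = pr (itr (fld σ x))
  congr 1
  apply Subtype.ext
  rw [coe_itr, ← map_inv]
  rfl

theorem Sem_one (A : GL ι F) : Sem A (RingEquiv.refl F) = Cj A := by
  have h : (fld (RingEquiv.refl F) : MulAut (Matrix.SpecialLinearGroup ι F)) = 1 := map_one fld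
  rw [Sem, h, map_one, mul_one]

theorem Sem_mul_Cj (A : GL ι F) (σ : F ≃+* F) (g : GL ι F) :
    Sem A σ * Cj g = Cj (A * mg σ g * A⁻¹) * Sem A σ := by
  rw [Sem, mul_assoc, fld_Cj, ← mul_assoc, ← mul_assoc, ← map_mul, ← map_mul,
    inv_mul_cancel_right]

theorem Sem_conj_Cj (A : GL ι F) (σ : F ≃+* F) (g : GL ι F) :
    Sem A σ * Cj g * (Sem A σ)⁻¹ = Cj (A * mg σ g * A⁻¹) := by
  rw [Sem_mul_Cj, mul_inv_cancel_right]

theorem Sem_mul (A : GL ι F) (σ : F ≃+* F) (A' : GL ι F) (τ : F ≃+* F) :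
    Sem A σ * Sem A' τ = Sem (A * mg σ A') (σ * τ) := by
  rw [Sem, Sem, Sem, mul_assoc, ← mul_assoc (lift (fld σ)), fld_Cj, map_mul, map_mul, map_mul]
  simp only [mul_assoc]

theorem gam_comm_iff [Nontrivial ι] (A : GL ι F) (σ : F ≃+* F) (B : GL ι F) :
    gam B * Sem A σ = Sem A σ * gam B ↔ ∃ c : F, c ≠ 0 ∧
      (B : Matrix ι ι F).map σ = c • ((A : Matrix ι ι F)ᵀ * B * A) := by
  have h1 : Sem A σ * gam B = Cj (A * mg σ B⁻¹ * (ct A)⁻¹) * It * Cj A * lift (fld σ) := by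
    rw [Sem, gam, mul_assoc (Cj A), ← mul_assoc (lift (fld σ)), fld_Cj, mul_assoc (Cj _) (lift _),
      fld_It]
    calc Cj A * (Cj (mg σ B⁻¹) * (It * lift (fld σ))) =
        Cj (A * mg σ B⁻¹) * It * lift (fld σ) := by rw [map_mul]; simp only [mul_assoc]
      _ = Cj (A * mg σ B⁻¹ * (ct A)⁻¹) * (Cj (ct A) * It) * lift (fld σ) := by
          rw [map_mul _ (A * mg σ B⁻¹), map_inv (Cj : GL ι F →* _) (ct A)]
          simp only [mul_assoc, inv_mul_cancel_left]
      _ = _ := by rw [← It_mul_Cj]; simp only [mul_assoc]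
  have h2 : gam B * Sem A σ = Cj B⁻¹ * It * Cj A * lift (fld σ) := by
    rw [gam, Sem]
    simp only [mul_assoc]
  rw [h1, h2]
  have h3 : (Cj B⁻¹ * It * Cj A * lift (fld σ) =
      Cj (A * mg σ B⁻¹ * (ct A)⁻¹) * It * Cj A * lift (fld σ)) ↔
      Cj B⁻¹ = Cj (A * mg σ B⁻¹ * (ct A)⁻¹) := by
    constructor
    · intro h
      exact mul_right_cancel (mul_right_cancel (mul_right_cancel h))
    · intro h
      rw [h]
  rw [h3]
  have h4 : Cj B⁻¹ = Cj (A * mg σ B⁻¹ * (ct A)⁻¹) ↔ Cj B = Cj (ct A * mg σ B * A⁻¹) := by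
    rw [map_inv (Cj : GL ι F →* _) B, inv_eq_iff_eq_inv, ← map_inv]
    have : (A * mg σ B⁻¹ * (ct A)⁻¹)⁻¹ = ct A * mg σ B * A⁻¹ := by
      rw [map_inv]; group
    rw [this]
  rw [h4, Cj_eq_iff]
  have h5 : ∀ c : F, ((ct A * mg σ B * A⁻¹ : GL ι F) : Matrix ι ι F) = c • (B : Matrix ι ι F) ↔
      (B : Matrix ι ι F).map σ = c • ((A : Matrix ι ι F)ᵀ * B * A) := by
    intro c
    have e1 : (A : Matrix ι ι F)ᵀ * ((A⁻¹ : GL ι F) : Matrix ι ι F)ᵀ = 1 := by
      rw [← transpose_mul, ← Units.val_mul, inv_mul_cancel, Units.val_one, transpose_one]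
    have e1' : ((A⁻¹ : GL ι F) : Matrix ι ι F)ᵀ * (A : Matrix ι ι F)ᵀ = 1 := by
      rw [← transpose_mul, ← Units.val_mul, mul_inv_cancel, Units.val_one, transpose_one]
    have e2 : ((A⁻¹ : GL ι F) : Matrix ι ι F) * (A : Matrix ι ι F) = 1 := by
      rw [← Units.val_mul, inv_mul_cancel, Units.val_one]
    have e2' : (A : Matrix ι ι F) * ((A⁻¹ : GL ι F) : Matrix ι ι F) = 1 := by
      rw [← Units.val_mul, mul_inv_cancel, Units.val_one]
    rw [Units.val_mul, Units.val_mul, coe_ct, coe_mg]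
    constructor
    · intro h
      calc (B : Matrix ι ι F).map σ = ((A : Matrix ι ι F)ᵀ * ((A⁻¹ : GL ι F) : Matrix ι ι F)ᵀ) *
            (B : Matrix ι ι F).map σ * (((A⁻¹ : GL ι F) : Matrix ι ι F) * (A : Matrix ι ι F)) := by
            rw [e1, e2, Matrix.one_mul, Matrix.mul_one]
        _ = (A : Matrix ι ι F)ᵀ * (((A⁻¹ : GL ι F) : Matrix ι ι F)ᵀ *
            (B : Matrix ι ι F).map σ * ((A⁻¹ : GL ι F) : Matrix ι ι F)) * (A : Matrix ι ι F) := by
            simp only [Matrix.mul_assoc]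
        _ = _ := by rw [h, Matrix.mul_smul, Matrix.smul_mul]
    · intro h
      rw [h, Matrix.mul_smul, Matrix.smul_mul]
      congr 1
      calc ((A⁻¹ : GL ι F) : Matrix ι ι F)ᵀ * ((A : Matrix ι ι F)ᵀ * B * A) *
            ((A⁻¹ : GL ι F) : Matrix ι ι F) = (((A⁻¹ : GL ι F) : Matrix ι ι F)ᵀ *
            (A : Matrix ι ι F)ᵀ) * B * (A * ((A⁻¹ : GL ι F) : Matrix ι ι F)) := by
            simp only [Matrix.mul_assoc]
        _ = _ := by rw [e1', e2', Matrix.one_mul, Matrix.mul_one]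
  exact exists_congr fun c => and_congr_right fun _ => h5 c

theorem Sem_comm_iff [Nontrivial ι] (A : GL ι F) (σ : F ≃+* F) (g : GL ι F) :
    Sem A σ * Cj g = Cj g * Sem A σ ↔ ∃ c : F, c ≠ 0 ∧
      (A : Matrix ι ι F) * (g : Matrix ι ι F).map σ = c • ((g : Matrix ι ι F) * A) := by
  rw [Sem_mul_Cj]
  constructor
  · intro h
    obtain ⟨c, hc, h1⟩ := Cj_eq_iff.1 (mul_right_cancel h).symm
    refine ⟨c, hc, ?_⟩
    have h2 : ((A * mg σ g * A⁻¹ : GL ι F) : Matrix ι ι F) * (A : Matrix ι ι F) =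
        (A : Matrix ι ι F) * (g : Matrix ι ι F).map σ := by
      rw [← Units.val_mul, inv_mul_cancel_right, Units.val_mul, coe_mg]
    rw [← h2, h1, Matrix.smul_mul]
  · rintro ⟨c, hc, h1⟩
    congr 1
    symm
    rw [Cj_eq_iff]
    refine ⟨c, hc, ?_⟩
    rw [Units.val_mul, Units.val_mul, coe_mg, h1, Matrix.smul_mul, Matrix.mul_assoc, ← Units.val_mul,
      mul_inv_cancel, Units.val_one, Matrix.mul_one]

/-- for unipotent `g` there is no scalar -/
theorem unip_exact [Nonempty ι] (A : GL ι F) (σ : F ≃+* F) (g : GL ι F)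
    (hg : IsNilpotent ((g : Matrix ι ι F) - 1)) {c : F}
    (h : (A : Matrix ι ι F) * (g : Matrix ι ι F).map σ = c • ((g : Matrix ι ι F) * A)) :
    (A : Matrix ι ι F) * (g : Matrix ι ι F).map σ = (g : Matrix ι ι F) * A := by
  have e2' : (A : Matrix ι ι F) * ((A⁻¹ : GL ι F) : Matrix ι ι F) = 1 := by
    rw [← Units.val_mul, mul_inv_cancel, Units.val_one]
  have e2 : ((A⁻¹ : GL ι F) : Matrix ι ι F) * (A : Matrix ι ι F) = 1 := by
    rw [← Units.val_mul, inv_mul_cancel, Units.val_one]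
  -- `c g = A σ(g) A⁻¹`
  have h1 : c • (g : Matrix ι ι F) = A * (g : Matrix ι ι F).map σ * ((A⁻¹ : GL ι F) : Matrix ι ι F) := by
    rw [h, Matrix.smul_mul, Matrix.mul_assoc, e2', Matrix.mul_one]
  have hn : IsNilpotent (c • (g : Matrix ι ι F) - 1) := by
    obtain ⟨k, hk⟩ := hg
    refine ⟨k, ?_⟩
    have h2 : c • (g : Matrix ι ι F) - 1 = A * ((g : Matrix ι ι F) - 1).map σ *
        ((A⁻¹ : GL ι F) : Matrix ι ι F) := by
      have h3 : ((g : Matrix ι ι F) - 1).map σ = (g : Matrix ι ι F).map σ - 1 := by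
        rw [Matrix.map_sub σ (fun a b => map_sub σ a b), Matrix.map_one σ (map_zero σ) (map_one σ)]
      rw [h1, h3, Matrix.mul_sub, Matrix.sub_mul, Matrix.mul_one, e2']
    have h4 : ∀ j : ℕ, (c • (g : Matrix ι ι F) - 1) ^ j = A * (((g : Matrix ι ι F) - 1) ^ j).map σ *
        ((A⁻¹ : GL ι F) : Matrix ι ι F) := by
      intro j
      induction j with
      | zero =>
        rw [pow_zero, pow_zero, Matrix.map_one σ (map_zero σ) (map_one σ), Matrix.mul_one, e2']
      | succ j ih =>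
        have h5 : (((g : Matrix ι ι F) - 1) ^ (j + 1)).map σ =
            (((g : Matrix ι ι F) - 1) ^ j).map σ * ((g : Matrix ι ι F) - 1).map σ := by
          rw [pow_succ]
          exact Matrix.map_mul (f := (σ : F →+* F))
        rw [pow_succ, ih, h5, h2]
        calc _ = A * (((g : Matrix ι ι F) - 1) ^ j).map σ * (((A⁻¹ : GL ι F) : Matrix ι ι F) * A) *
              ((g : Matrix ι ι F) - 1).map σ * ((A⁻¹ : GL ι F) : Matrix ι ι F) := by
              simp only [Matrix.mul_assoc]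
          _ = _ := by rw [e2, Matrix.mul_one]; simp only [Matrix.mul_assoc]
    rw [h4, hk, Matrix.map_zero σ (map_zero σ), Matrix.mul_zero, Matrix.zero_mul]
  have hcomm : Commute (c • (g : Matrix ι ι F) - 1) ((g : Matrix ι ι F) - 1) := by
    apply Commute.sub_left
    · apply Commute.sub_right
      · exact (Commute.refl _).smul_left c
      · exact Commute.one_right _
    · exact Commute.one_left _
  have h5 : IsNilpotent ((c • (g : Matrix ι ι F) - 1) - ((g : Matrix ι ι F) - 1)) :=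
    hcomm.isNilpotent_sub hn hg
  have h6 : (c • (g : Matrix ι ι F) - 1) - ((g : Matrix ι ι F) - 1) = (c - 1) • (g : Matrix ι ι F) := by
    rw [sub_smul, one_smul]; abel
  rw [h6] at h5
  have h7 : c - 1 = 0 := by
    by_contra hne
    obtain ⟨k, hk⟩ := h5
    rw [smul_pow] at hk
    have h8 : ((g ^ k : GL ι F) : Matrix ι ι F) = 0 := by
      rw [Units.val_pow_eq_pow_val]
      exact (smul_eq_zero.1 hk).resolve_left (pow_ne_zero _ hne)
    have h9 : ((g ^ k : GL ι F) : Matrix ι ι F) * (((g ^ k)⁻¹ : GL ι F) : Matrix ι ι F) = 1 := by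
      rw [← Units.val_mul, mul_inv_cancel, Units.val_one]
    rw [h8, Matrix.zero_mul] at h9
    exact zero_ne_one h9
  have h10 : c = 1 := sub_eq_zero.1 h7
  rw [h, h10, one_smul]

end basic

section reindex

variable {ι κ F : Type*} [Fintype ι] [DecidableEq ι] [Fintype κ] [DecidableEq κ] [Field F]

/-- reindexing on `GL` -/
def reGL (e : ι ≃ κ) : GL ι F ≃* GL κ F :=
  Units.mapEquiv (Matrix.reindexAlgEquiv F F e : Matrix ι ι F ≃ₐ[F] Matrix κ κ F).toMulEquiv

theorem coe_reGL (e : ι ≃ κ) (g : GL ι F) :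
    (reGL e g : Matrix κ κ F) = (g : Matrix ι ι F).submatrix e.symm e.symm := rfl

/-- reindexing on `SL` -/
def reSL (e : ι ≃ κ) : Matrix.SpecialLinearGroup ι F ≃* Matrix.SpecialLinearGroup κ F where
  toFun g := ⟨g.1.submatrix e.symm e.symm, by rw [det_submatrix_equiv_self]; exact g.2⟩
  invFun g := ⟨g.1.submatrix e e, by rw [det_submatrix_equiv_self]; exact g.2⟩
  left_inv g := by
    apply Subtype.ext
    ext i j
    simp
  right_inv g := by
    apply Subtype.ext
    ext i j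
    simp
  map_mul' g h := by
    apply Subtype.ext
    exact (Matrix.submatrix_mul_equiv g.1 h.1 e.symm e.symm e.symm).symm

/-- reindexing on `PSL` -/
noncomputable def rePSL (e : ι ≃ κ) : Matrix.ProjectiveSpecialLinearGroup ι F ≃*
    Matrix.ProjectiveSpecialLinearGroup κ F :=
  QuotientGroup.congr _ _ (reSL e) (by
    ext z
    constructor
    · rintro ⟨w, hw, rfl⟩
      rw [Subgroup.mem_center_iff]
      intro g
      have := congrArg (reSL e) (Subgroup.mem_center_iff.1 hw ((reSL e).symm g))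
      rw [map_mul, map_mul] at this
      simpa using this
    · intro h
      refine ⟨(reSL e).symm z, ?_, by simp⟩
      apply Subgroup.mem_center_iff.2
      intro g
      apply (reSL e).injective
      rw [map_mul, map_mul]
      simpa using Subgroup.mem_center_iff.1 h (reSL e g))

theorem rePSL_pr (e : ι ≃ κ) (g : Matrix.SpecialLinearGroup ι F) :
    rePSL e (pr g) = pr (reSL e g) := rfl

theorem congr_Cj (e : ι ≃ κ) (g : GL ι F) :
    MulAut.congr (rePSL e) (Cj g) = Cj (reGL e g) := by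
  apply MulEquiv.ext
  intro x
  obtain ⟨x, rfl⟩ := (rePSL e).surjective x
  obtain ⟨x, rfl⟩ := pr_surjective x
  have h1 : MulAut.congr (rePSL e) (Cj g) (rePSL e (pr x)) = rePSL e (Cj g (pr x)) := by
    simp [MulAut.congr]
  rw [h1]
  change pr (reSL e (cj g x)) = pr (cj (reGL e g) (reSL e x))
  congr 1
  apply Subtype.ext
  change (((g : Matrix ι ι F) * x.1 * ((g⁻¹ : GL ι F) : Matrix ι ι F))).submatrix e.symm e.symm =
    ((g : Matrix ι ι F).submatrix e.symm e.symm) * (x.1.submatrix e.symm e.symm) *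
      (((reGL e g)⁻¹ : GL κ F) : Matrix κ κ F)
  rw [← map_inv, coe_reGL, Matrix.submatrix_mul_equiv, Matrix.submatrix_mul_equiv]

theorem congr_fld (e : ι ≃ κ) (σ : F ≃+* F) :
    MulAut.congr (rePSL e) (lift (fld σ)) = lift (fld σ) := by
  apply MulEquiv.ext
  intro x
  obtain ⟨x, rfl⟩ := (rePSL e).surjective x
  obtain ⟨x, rfl⟩ := pr_surjective x
  have h1 : MulAut.congr (rePSL e) (lift (fld σ)) (rePSL e (pr x)) =
      rePSL e (lift (fld σ) (pr x)) := by
    simp [MulAut.congr]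
  rw [h1]
  rfl

theorem congr_It (e : ι ≃ κ) : MulAut.congr (rePSL (F := F) e) It = It := by
  apply MulEquiv.ext
  intro x
  obtain ⟨x, rfl⟩ := (rePSL e).surjective x
  obtain ⟨x, rfl⟩ := pr_surjective x
  have h1 : MulAut.congr (rePSL e) It (rePSL e (pr x)) = rePSL e (It (pr x)) := by
    simp [MulAut.congr]
  rw [h1]
  change pr (reSL e (itr x)) = pr (itr (reSL e x))
  congr 1
  apply Subtype.ext
  rw [coe_itr, ← map_inv]
  rfl

theorem congr_gam (e : ι ≃ κ) (B : GL ι F) :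
    MulAut.congr (rePSL e) (gam B) = gam (reGL e B) := by
  rw [gam, gam, map_mul, congr_Cj, congr_It, map_inv]

theorem congr_Sem (e : ι ≃ κ) (A : GL ι F) (σ : F ≃+* F) :
    MulAut.congr (rePSL e) (Sem A σ) = Sem (reGL e A) σ := by
  rw [Sem, Sem, map_mul, congr_Cj, congr_fld]

end reindex

section form

variable {ι F : Type*} [Fintype ι] [DecidableEq ι] [Field F] [Fintype F]

/-- every automorphism of `PSL` -/
theorem exists_form (hι : 2 ≤ Fintype.card ι)
    (α : MulAut (Matrix.ProjectiveSpecialLinearGroup ι F)) :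
    (∃ (A : GL ι F) (σ : F ≃+* F), α = Sem A σ) ∨
    (3 ≤ Fintype.card ι ∧ ∃ (A : GL ι F) (σ : F ≃+* F), α = Sem A σ * It) := by
  let e : ι ≃ Fin (Fintype.card ι) := Fintype.equivFin ι
  have hs : ∀ g : MulAut (Matrix.ProjectiveSpecialLinearGroup (Fin (Fintype.card ι)) F),
      MulAut.congr (rePSL e) ((MulAut.congr (rePSL e)).symm g) = g := fun g =>
    MulEquiv.apply_symm_apply _ g
  have hA : ∀ A : GL (Fin (Fintype.card ι)) F, reGL e ((reGL e).symm A) = A := fun A =>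
    MulEquiv.apply_symm_apply _ A
  rcases Cfsg.Agent.H199.PslAut.exists_form hι (MulAut.congr (rePSL e) α) with
    ⟨g, σ, h⟩ | ⟨h3, g, σ, h⟩
  · left
    refine ⟨(reGL e).symm g, σ, ?_⟩
    apply (MulAut.congr (rePSL e)).injective
    rw [h, congr_Sem, hA]
    rfl
  · right
    refine ⟨h3, (reGL e).symm g, σ, ?_⟩
    apply (MulAut.congr (rePSL e)).injective
    rw [h, map_mul, congr_Sem, hA, congr_It]
    rfl

theorem It_mul_Sem (A : GL ι F) (σ : F ≃+* F) : It * Sem A σ = Sem (ct A) σ * It := by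
  rw [Sem, Sem, ← mul_assoc, It_mul_Cj, mul_assoc, ← fld_It, ← mul_assoc]

/-- elements of odd order are semilinear -/
theorem exists_sem_of_odd (hι : 2 ≤ Fintype.card ι)
    (x : MulAut (Matrix.ProjectiveSpecialLinearGroup ι F)) {r : ℕ} (hr : Odd r) (hx : x ^ r = 1) :
    ∃ (A : GL ι F) (σ : F ≃+* F), x = Sem A σ := by
  rcases exists_form hι x with h | ⟨h3, A, σ, h⟩
  · exact h
  · have h2 : ∀ k : ℕ, ∃ (A' : GL ι F) (τ : F ≃+* F), x ^ (2 * k) = Sem A' τ := by
      intro k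
      induction k with
      | zero =>
        refine ⟨1, RingEquiv.refl F, ?_⟩
        rw [Sem_one, map_one, mul_zero, pow_zero]
      | succ k ih =>
        obtain ⟨A', τ, ih⟩ := ih
        refine ⟨A' * mg τ (A * mg σ (ct A)), τ * (σ * σ), ?_⟩
        rw [mul_add, mul_one, pow_add, ih, pow_two, h, ← Sem_mul, ← Sem_mul]
        congr 1
        rw [mul_assoc, ← mul_assoc It, It_mul_Sem, mul_assoc (Sem (ct A) σ), It_mul_It, mul_one]
    obtain ⟨k, rfl⟩ := hr
    obtain ⟨A', τ, h4⟩ := h2 (k + 1)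
    refine ⟨A', τ, ?_⟩
    rw [← h4]
    have : 2 * (k + 1) = (2 * k + 1) + 1 := by ring
    rw [this, pow_add, hx, one_mul, pow_one]

end form

end Cfsg.Agent.H384.RC
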