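import Mathlib
import Cfsg.Agent.H384.RC.Lin

/-!
# S3510 part B: the rules with `M` given as the image of a concrete group `K` (helper384)
-/

set_option autoImplicit false
open MulAction
open scoped commutatorElement

namespace Cfsg.Agent.H384.RC

open Cfsg.Agent.H106.RC

section gen

/-- the quotient map from the range of `f`, `ker f = Z(K)` -/
theorem exists_pi {K A : Type*} [Group K] [Group A] (f : K →* A)
    (hf : ∀ k, f k = 1 ↔ k ∈ Subgroup.center K) :
    ∃ π : f.range ≃* K ⧸ Subgroup.center K, ∀ k, π ⟨f k, k, rfl⟩ = QuotientGroup.mk k := by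
  have hk : f.ker = Subgroup.center K := by
    ext k
    rw [MonoidHom.mem_ker, hf]
  let e1 : K ⧸ f.ker ≃* K ⧸ Subgroup.center K := QuotientGroup.quotientMulEquivOfEq hk
  refine ⟨(QuotientGroup.quotientKerEquivRange f).symm.trans e1, fun k => ?_⟩
  have h1 : (QuotientGroup.quotientKerEquivRange f).symm ⟨f k, k, rfl⟩ = QuotientGroup.mk k := by
    rw [MulEquiv.symm_apply_eq]
    rfl
  show e1 ((QuotientGroup.quotientKerEquivRange f).symm ⟨f k, k, rfl⟩) = _
  rw [h1]
  rfl

theorem comm_eq_of_simple {Q A : Type*} [Group Q] [Group A] (hQ : IsSimpleGroup Q)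
    (hQn : ¬ IsMulCommutative Q) (M : Subgroup A) (π : M ≃* Q) : ⁅M, M⁆ = M := by
  have h1 : commutator M = ⊤ := by
    have hM : IsSimpleGroup M := isSimple_cgr' π.symm hQ
    rcases hM.eq_bot_or_eq_top_of_normal (commutator M) inferInstance with h | h
    · exfalso
      apply hQn
      have h2 : ∀ a b : M, a * b = b * a := by
        intro a b
        have : ⁅a, b⁆ ∈ commutator M :=
          Subgroup.commutator_mem_commutator (Subgroup.mem_top a) (Subgroup.mem_top b)
        rw [h, Subgroup.mem_bot, commutatorElement_eq_one_iff_mul_comm] at this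
        exact this
      constructor
      constructor
      intro a b
      obtain ⟨a, rfl⟩ := π.surjective a
      obtain ⟨b, rfl⟩ := π.surjective b
      rw [← map_mul, ← map_mul, h2]
    · exact h
  have h2 := congrArg (Subgroup.map M.subtype) h1
  rw [commutator_def, Subgroup.map_commutator] at h2
  have h3 : (⊤ : Subgroup M).map M.subtype = M := by
    rw [← MonoidHom.range_eq_map, Subgroup.range_subtype]
  rwa [h3] at h2
where
  isSimple_cgr' {Q M : Type _} [Group Q] [Group M] (e : Q ≃* M) (h : IsSimpleGroup Q) :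
      IsSimpleGroup M := by
    have := h
    have : Nontrivial M := e.symm.toEquiv.nontrivial
    exact IsSimpleGroup.isSimpleGroup_of_surjective e.toMonoidHom e.surjective

end gen

variable {S : Type*} [Group S]

/-- `x` of finite order normalises `f.range` -/
theorem mem_norm_range {A : Type*} [Group A] {K : Type*} [Group K] (f : K →* A) (x : A) {r : ℕ} (hr : 0 < r)
    (hx : x ^ r = 1) (h : ∀ k, ∃ k', x * f k * x⁻¹ = f k') :
    x ∈ Subgroup.normalizer (f.range : Set A) := by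
  have h' : ∀ m ∈ f.range, x * m * x⁻¹ ∈ f.range := by
    rintro _ ⟨k, rfl⟩
    obtain ⟨k', hk'⟩ := h k
    exact ⟨k', hk'.symm⟩
  have hpow : ∀ j : ℕ, ∀ m ∈ f.range, x ^ j * m * (x ^ j)⁻¹ ∈ f.range := by
    intro j
    induction j with
    | zero => intro m hm; simpa using hm
    | succ j ih =>
      intro m hm
      have e : x ^ (j + 1) * m * (x ^ (j + 1))⁻¹ = x * (x ^ j * m * (x ^ j)⁻¹) * x⁻¹ := by
        rw [pow_succ']; group
      rw [e]
      exact h' _ (ih m hm)
  rw [Subgroup.mem_normalizer_iff]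
  intro m
  refine ⟨h' m, fun hm => ?_⟩
  have h1 := hpow (r - 1) _ hm
  have e : x ^ (r - 1) * x = 1 := by
    rw [← pow_succ, Nat.sub_add_cancel hr, hx]
  have e2 : x ^ (r - 1) = x⁻¹ := eq_inv_of_mul_eq_one_left e
  rw [e2] at h1
  have e3 : x⁻¹ * (x * m * x⁻¹) * x⁻¹⁻¹ = m := by group
  rwa [e3] at h1

/-- **main rule**, `M` = image of `K`; `t` centralises `M` -/
theorem fam_K {K : Type*} [Group K] (hS : IsSimpleGroup S) {κ : Type} [Finite κ]
    {t : MulAut S} {x : κ → MulAut S} {r : κ → ℕ} (hF : Fam t x r) (ht2 : t * t = 1)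
    {H : Subgroup (MulAut S)} (hcov : CovH t x H)
    (f : K →* MulAut S) (hf : ∀ k, f k = 1 ↔ k ∈ Subgroup.center K)
    (hK : IsSimpleGroup (K ⧸ Subgroup.center K)) (hKn : ¬ IsMulCommutative (K ⧸ Subgroup.center K))
    (hRC : RCo (K ⧸ Subgroup.center K)) (hfi : ∀ k, f k ∈ inn S)
    (ht : ∀ k, t * f k = f k * t) (hnorm : ∀ i k, ∃ k', x i * f k * (x i)⁻¹ = f k')
    (hcent : ∀ i, ¬ ∀ k, x i * f k = f k * x i)
    (k₀ : K) (hk₀ : f k₀ ≠ 1)
    (hy : f k₀ ∈ Subgroup.closure
      {z | ∃ q ∈ inn S, q * f k₀ = f k₀ * q ∧ z = q * t * q⁻¹ * t⁻¹}) :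
    inn S ≤ H := by
  obtain ⟨π, hπ⟩ := exists_pi f hf
  refine fam_main hS hF ht2 hcov hK hKn f.range ?_ (comm_eq_of_simple hK hKn _ π) π.toMonoidHom
    π.surjective ?_ ?_ (fun i => mem_norm_range f (x i) (hF.pr i).pos (hF.pow i) (hnorm i)) hRC ?_
    (f k₀) ⟨k₀, rfl⟩ hk₀ hy
  · rintro _ ⟨k, rfl⟩
    exact hfi k
  · intro z hz
    have : z = 1 := π.injective (by rw [map_one]; exact hz)
    rw [this]
    exact Subgroup.one_mem _
  · rintro _ ⟨k, rfl⟩
    exact ht k
  · intro i h
    exact hcent i fun k => h _ ⟨k, rfl⟩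

/-- nobody centralises `M` = image of `K` -/
theorem fam_K_none {K : Type*} [Group K] (hS : IsSimpleGroup S) {κ : Type} [Finite κ]
    {t : MulAut S} {x : κ → MulAut S} {r : κ → ℕ} (hF : Fam t x r) (ht2 : t * t = 1)
    {H : Subgroup (MulAut S)} (hcov : CovH t x H)
    (f : K →* MulAut S) (hf : ∀ k, f k = 1 ↔ k ∈ Subgroup.center K)
    (hK : IsSimpleGroup (K ⧸ Subgroup.center K)) (hKn : ¬ IsMulCommutative (K ⧸ Subgroup.center K))
    (hRC : RC (K ⧸ Subgroup.center K)) (hfi : ∀ k, f k ∈ inn S)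
    (hnt : ∀ k, ∃ k', t * f k * t⁻¹ = f k') (hnorm : ∀ i k, ∃ k', x i * f k * (x i)⁻¹ = f k')
    (hcent : ∀ i, ¬ ∀ k, x i * f k = f k * x i) (htc : ¬ ∀ k, t * f k = f k * t) :
    inn S ≤ H := by
  obtain ⟨π, hπ⟩ := exists_pi f hf
  refine fam_M_none hS hF ht2 hcov hK hKn f.range ?_ (comm_eq_of_simple hK hKn _ π) π.toMonoidHom
    π.surjective ?_ (fun i => mem_norm_range f (x i) (hF.pr i).pos (hF.pow i) (hnorm i))
    (mem_norm_range f t two_pos (by rw [pow_two, ht2]) hnt) hRC ?_ ?_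
  · rintro _ ⟨k, rfl⟩
    exact hfi k
  · intro z hz
    have : z = 1 := π.injective (by rw [map_one]; exact hz)
    rw [this]
    exact Subgroup.one_mem _
  · intro i h
    exact hcent i fun k => h _ ⟨k, rfl⟩
  · intro h
    exact htc fun k => h _ ⟨k, rfl⟩

section gam

open Matrix
open Cfsg.Agent.ClassicalGeometry.AutPSL.Auto
open Cfsg.Agent.H999.PslGraph

variable {ι F : Type*} [Fintype ι] [DecidableEq ι] [Field F]

/-- `[q, gam B]` is conjugation by `q q*`, `q* = B⁻¹ qᵀ B` the adjoint -/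
theorem comm_gam (B q : GL ι F) :
    Cj q * gam B * (Cj q)⁻¹ * (gam B)⁻¹ = Cj (q * (B⁻¹ * (ct q)⁻¹ * B)) := by
  have h1 : gam (ct q * B * q⁻¹) = Cj (q * (B⁻¹ * (ct q)⁻¹ * B)) * gam B := by
    rw [gam, gam, ← mul_assoc, ← map_mul]
    congr 2
    group
  rw [gam_conj, h1, mul_inv_cancel_right]

theorem coe_adj (B q : GL ι F) : ((B⁻¹ * (ct q)⁻¹ * B : GL ι F) : Matrix ι ι F) =
    ((B⁻¹ : GL ι F) : Matrix ι ι F) * (q : Matrix ι ι F)ᵀ * (B : Matrix ι ι F) := by
  rw [Units.val_mul, Units.val_mul, coe_ct_inv]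

theorem Cj_toGL (s : Matrix.SpecialLinearGroup ι F) :
    Cj (Matrix.SpecialLinearGroup.toGL s) =
      MulAut.conj (Cfsg.Agent.ClassicalGeometry.AutPSL.Root.pr s) := by
  apply MulEquiv.ext
  intro x
  obtain ⟨x, rfl⟩ := Cfsg.Agent.ClassicalGeometry.AutPSL.Root.pr_surjective x
  change Cfsg.Agent.ClassicalGeometry.AutPSL.Root.pr (cj (Matrix.SpecialLinearGroup.toGL s) x) =
    Cfsg.Agent.ClassicalGeometry.AutPSL.Root.pr (s * x * s⁻¹)
  rfl

/-- `Cj g` for `det g = 1` is inner -/
theorem Cj_mem_inn (g : GL ι F) (h : (g : Matrix ι ι F).det = 1) :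
    Cj g ∈ inn (Matrix.ProjectiveSpecialLinearGroup ι F) := by
  let g' : Matrix.SpecialLinearGroup ι F := ⟨g, h⟩
  have h1 : g = Matrix.SpecialLinearGroup.toGL g' := by
    apply Units.ext
    rfl
  rw [h1, Cj_toGL]
  exact ⟨_, rfl⟩

/-- `gam B` is an involution if `B` is symmetric or skew -/
theorem gam_sq [Nontrivial ι] (B : GL ι F)
    (h : (B : Matrix ι ι F)ᵀ = B ∨ (B : Matrix ι ι F)ᵀ = -B) : gam B * gam B = 1 := by
  rw [gam_mul_gam, Cj_eq_one_iff]
  have e : (((B⁻¹ * (ct B)⁻¹ : GL ι F)) : Matrix ι ι F) =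
      ((B⁻¹ : GL ι F) : Matrix ι ι F) * (B : Matrix ι ι F)ᵀ := by
    rw [Units.val_mul, coe_ct_inv]
  have e2 : ((B⁻¹ : GL ι F) : Matrix ι ι F) * (B : Matrix ι ι F) = 1 := by
    rw [← Units.val_mul, inv_mul_cancel, Units.val_one]
  rcases h with h | h
  · refine ⟨1, ?_⟩
    rw [e, h, e2, one_smul]
  · refine ⟨-1, ?_⟩
    rw [e, h, Matrix.mul_neg, e2, neg_smul, one_smul]

theorem gam_comm_Cj_iff [Nontrivial ι] (B g : GL ι F) :
    gam B * Cj g = Cj g * gam B ↔ ∃ c : F, c ≠ 0 ∧
      (B : Matrix ι ι F) = c • ((g : Matrix ι ι F)ᵀ * B * g) := by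
  have h := gam_comm_iff g (RingEquiv.refl F) B
  rw [Sem_one] at h
  exact h

end gam

/-- `card (K/Z) < card S` when a nontrivial `t` centralises the image -/
theorem card_lt_of_cent {S K : Type*} [Group S] [Finite S] [Group K] (hS : IsSimpleGroup S)
    (hSn : ¬ IsMulCommutative S) (f : K →* MulAut S)
    (hf : ∀ k, f k = 1 ↔ k ∈ Subgroup.center K) (hfi : ∀ k, f k ∈ inn S) (t : MulAut S)
    (ht1 : t ≠ 1) (ht : ∀ k, t * f k = f k * t) :
    Nat.card (K ⧸ Subgroup.center K) < Nat.card S := by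
  have hfin : Finite (MulAut S) := Finite.of_injective (fun f : MulAut S => (f : S → S)) (by
    intro a b h
    exact DFunLike.coe_injective h)
  obtain ⟨π, -⟩ := exists_pi f hf
  rw [← Nat.card_congr π.toEquiv]
  have hZ : Subgroup.center S = ⊥ := by
    rcases hS.eq_bot_or_eq_top_of_normal (Subgroup.center S) inferInstance with h | h
    · exact h
    · exfalso
      apply hSn
      constructor
      constructor
      intro s t
      have : t ∈ Subgroup.center S := by rw [h]; trivial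
      exact Subgroup.mem_center_iff.1 this s
  have hle : f.range ≤ inn S := by
    rintro _ ⟨k, rfl⟩
    exact hfi k
  have hne : f.range ≠ inn S := by
    intro h
    apply ht1
    apply MulEquiv.ext
    intro s
    have h1 : MulAut.conj s ∈ f.range := by rw [h]; exact ⟨s, rfl⟩
    obtain ⟨k, hk⟩ := h1
    have h2 := ht k
    rw [hk] at h2
    have h3 : MulAut.conj (t s) = MulAut.conj s := by
      rw [← aut_conj, h2, mul_inv_cancel_right]
    have h4 : (t s) * s⁻¹ ∈ Subgroup.center S := by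
      rw [Subgroup.mem_center_iff]
      intro g
      have h5 := congrArg (fun a : MulAut S => a (s⁻¹ * g * s)) h3
      simp only [MulAut.conj_apply] at h5
      have h6 : t s * (s⁻¹ * g * s) * (t s)⁻¹ = g := by
        rw [h5]; group
      calc g * (t s * s⁻¹) = (t s * (s⁻¹ * g * s) * (t s)⁻¹) * (t s * s⁻¹) := by rw [h6]
        _ = t s * s⁻¹ * g := by group
    rw [hZ, Subgroup.mem_bot, mul_inv_eq_one] at h4
    rw [h4, MulAut.one_apply]
  have hcard : Nat.card (inn S) = Nat.card S := by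
    apply Nat.card_congr
    symm
    apply Equiv.ofBijective (fun s : S => (⟨MulAut.conj s, s, rfl⟩ : inn S))
    constructor
    · intro a b h
      have h1 : MulAut.conj a = MulAut.conj b := congrArg Subtype.val h
      have h2 : MulAut.conj (a * b⁻¹) = 1 := by rw [map_mul, h1, map_inv, mul_inv_cancel]
      have h4 : a * b⁻¹ ∈ Subgroup.center S := by
        rw [Subgroup.mem_center_iff]
        intro g
        have h5 := congrArg (fun z : MulAut S => z g) h2
        simp only [MulAut.conj_apply, MulAut.one_apply] at h5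
        calc g * (a * b⁻¹) = ((a * b⁻¹) * g * (a * b⁻¹)⁻¹) * (a * b⁻¹) := by rw [h5]
          _ = (a * b⁻¹) * g := by group
      rw [hZ, Subgroup.mem_bot, mul_inv_eq_one] at h4
      exact h4
    · rintro ⟨_, s, rfl⟩
      exact ⟨s, rfl⟩
  rw [← hcard]
  apply Nat.lt_of_le_of_ne (Nat.card_le_card_of_injective _ (Subgroup.inclusion_injective hle))
  intro h
  apply hne
  exact Subgroup.eq_of_le_of_card_ge hle h.ge

end Cfsg.Agent.H384.RC
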