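import Mathlib
import Cfsg.Agent.H384.RC.KRule
import Cfsg.Agent.H384.RC.Asm
import Cfsg.Agent.H999.PslGraphClasses
import Cfsg.Agent.H999.PslGraphTwo
import Cfsg.Agent.H199.PslOddGraph
import Cfsg.Agent.H199.PslGraphField
import Cfsg.Agent.S2697
import Cfsg.Agent.S2699

/-!
# S3510 part B: normal forms of involutory dualities (helper384)
-/

set_option autoImplicit false

namespace Cfsg.Agent.H384.RC

open Matrix Cfsg
open Cfsg.Agent.ClassicalGeometry.AutPSL.Auto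
open Cfsg.Agent.H999.PslGraph
open Cfsg.Agent.H199.PslAut (Psi phi iot)
open Cfsg.Agent.H199.PslGraphField (gf)

section equiv

variable {ι κ F : Type*} [Fintype ι] [DecidableEq ι] [Fintype κ] [DecidableEq κ] [Field F]

/-- congruent (up to a scalar) Gram matrices -/
theorem Killed.of_congr {B B' : GL ι F} (P : GL ι F) {c : F} (hc : c ≠ 0)
    (h : (P : Matrix ι ι F)ᵀ * B * P = c • (B' : Matrix ι ι F)) (hk : Killed (gam B')) [Nontrivial ι] :
    Killed (gam B) := by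
  have h1 : gam (ct P⁻¹ * B * (P⁻¹)⁻¹) = gam B' := by
    rw [gam_eq_iff]
    refine ⟨c⁻¹, inv_ne_zero hc, ?_⟩
    have e : ((ct P⁻¹ * B * (P⁻¹)⁻¹ : GL ι F) : Matrix ι ι F) = (P : Matrix ι ι F)ᵀ * B * P := by
      rw [inv_inv, Units.val_mul, Units.val_mul, ct_inv, coe_ct_inv]
    rw [e, h, smul_smul, inv_mul_cancel₀ hc, one_smul]
  have h2 := gam_conj P⁻¹ B
  rw [h1] at h2
  have h3 : gam B = Cj P * gam B' * (Cj P)⁻¹ := by
    rw [← h2, map_inv]
    group
  rw [h3]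
  exact hk.conj _

theorem bil_sub (e : ι ≃ κ) (B : Matrix κ κ F) (u v : ι → F) :
    bil (B.submatrix e e) u v = bil B (u ∘ e.symm) (v ∘ e.symm) := by
  rw [bil, bil, Matrix.submatrix_mulVec_equiv, dotProduct, dotProduct]
  exact Fintype.sum_equiv e _ _ fun i => by simp

/-- forms which are equivalent up to a scalar -/
theorem Killed.of_equiv [Nontrivial ι] (B : GL ι F) (B' : GL κ F) (T : (κ → F) ≃ₗ[F] (ι → F)) {c : F}
    (hc : c ≠ 0)
    (h : ∀ u v, bil (B : Matrix ι ι F) (T u) (T v) = c * bil (B' : Matrix κ κ F) u v)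
    (hk : Killed (gam B')) : Killed (gam B) := by
  have hcard : Fintype.card κ = Fintype.card ι := by
    have := T.finrank_eq
    simpa using this
  let e : κ ≃ ι := Fintype.equivOfCardEq hcard
  have h1 : Killed (gam (reGL e B')) := by
    rw [← congr_gam]
    exact hk.congr _
  let E : (ι → F) ≃ₗ[F] (κ → F) := LinearEquiv.funCongrLeft F F e
  let T' : (ι → F) ≃ₗ[F] (ι → F) := E.trans T
  have h2 : LinearMap.toMatrix' (T' : (ι → F) →ₗ[F] (ι → F)) *
      LinearMap.toMatrix' (T'.symm : (ι → F) →ₗ[F] (ι → F)) = 1 := by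
    rw [← LinearMap.toMatrix'_comp]
    simp
  have h3 : LinearMap.toMatrix' (T'.symm : (ι → F) →ₗ[F] (ι → F)) *
      LinearMap.toMatrix' (T' : (ι → F) →ₗ[F] (ι → F)) = 1 := by
    rw [← LinearMap.toMatrix'_comp]
    simp
  let P : GL ι F := ⟨_, _, h2, h3⟩
  have hP : ∀ u, (P : Matrix ι ι F) *ᵥ u = T (u ∘ e) := by
    intro u
    change LinearMap.toMatrix' (T' : (ι → F) →ₗ[F] (ι → F)) *ᵥ u = T (u ∘ e)
    rw [LinearMap.toMatrix'_mulVec]
    rfl
  refine Killed.of_congr P hc ?_ h1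
  apply bil_ext
  intro u v
  rw [← bil_mulVec, hP, hP, h, bil_smul, coe_reGL, bil_sub]
  rfl

end equiv

section dual

variable {F : Type} [Field F] [Fintype F] {n : ℕ}

theorem psi_phi_mem (g : GL (Fin n) F) (σ : F ≃+* F) : Psi n F g * phi n F σ ∈ gammaPSL n F :=
  Subgroup.subset_closure ⟨g, σ, (Cfsg.Agent.H199.PslAut.induced_iff g σ _).2 rfl⟩

theorem orderOf_gf (hn : 3 ≤ n) {σ : F ≃+* F} (hσ : orderOf σ = 2) : orderOf (gf n σ) = 2 := by
  apply orderOf_eq_prime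
  · rw [Cfsg.Agent.H199.PslGraphField.gf_sq]
    have : σ ^ 2 = 1 := by rw [← hσ, pow_orderOf_eq_one]
    rw [this, map_one]
  · intro h
    have h1 : Psi n F 1 * phi n F σ * iot n F = phi n F 1 := by
      rw [map_one, one_mul, map_one]
      exact h
    exact Cfsg.Agent.H199.PslAut.not_graph' hn h1

/-- involutory dualities -/
theorem dual_cases (hn : 3 ≤ n) (t : MulAut (Matrix.ProjectiveSpecialLinearGroup (Fin n) F))
    (ht : t ∉ gammaPSL n F) (ht2 : t * t = 1) :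
    (∃ B : GL (Fin n) F, t = gam B ∧ ((B : Matrix (Fin n) (Fin n) F)ᵀ = B ∨
      (B : Matrix (Fin n) (Fin n) F)ᵀ = -B)) ∨
    (∃ σ : F ≃+* F, orderOf σ = 2 ∧ IsConjUnder (inndiagPSL n F) (gf n σ) t) := by
  have hn2 : 2 ≤ n := by omega
  rcases Cfsg.Agent.H199.PslAut.exists_form hn2 t with ⟨g, σ, h⟩ | ⟨-, g, σ, h⟩
  · exact absurd (h ▸ psi_phi_mem g σ) ht
  have h1 : t = Psi n F g * gf n σ := by rw [h, gf, mul_assoc]
  have hsq : t * t = Psi n F (g * Cfsg.Agent.H199.PslAut.mapGL σ (Cfsg.Agent.H199.PslAut.itGL g)) *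
      phi n F (σ ^ 2) := by
    rw [h1, mul_assoc, ← mul_assoc (gf n σ), Cfsg.Agent.H199.PslGraphField.gf_mul_Psi,
      ← Cfsg.Agent.H199.PslGraphField.gf_sq, pow_two, map_mul]
    simp only [mul_assoc]
  have hσ2 : σ ^ 2 = 1 := by
    rw [ht2] at hsq
    have h3 : Psi n F (g * Cfsg.Agent.H199.PslAut.mapGL σ (Cfsg.Agent.H199.PslAut.itGL g)) *
      phi n F (σ ^ 2) = phi n F 1 := by rw [← hsq, map_one]
    exact (Cfsg.Agent.H199.PslAut.Psi_phi_eq hn2 h3).2
  have hto : orderOf t = 2 := by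
    apply orderOf_eq_prime
    · rw [pow_two, ht2]
    · rintro rfl
      exact ht (Subgroup.one_mem _)
  by_cases hσ : σ = 1
  · left
    refine ⟨g⁻¹, ?_, ?_⟩
    · rw [h, hσ, map_one, mul_one, gam, inv_inv]
      rfl
    · have h4 : t = gam g⁻¹ := by
        rw [h, hσ, map_one, mul_one, gam, inv_inv]
        rfl
      exact (orderOf_gam' hn g⁻¹).1 (h4 ▸ hto)
  · right
    have hσo : orderOf σ = 2 := orderOf_eq_prime hσ2 hσ
    refine ⟨σ, hσo, ?_⟩
    obtain ⟨p, hp⟩ := CharP.exists F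
    obtain ⟨k, hpp, hk⟩ := FiniteField.card F p
    have : Fact p.Prime := ⟨hpp⟩
    have hgf : IsGraphFieldAutClassPSL (gf n σ) := by
      refine ⟨hn, 1, phi n F σ, iot n F, σ, ?_, (Cfsg.Agent.H199.PslAut.std_iff σ _).2 rfl,
        (Cfsg.Agent.H199.PslAut.invTr_iff _).2 rfl, ?_⟩
      · exact hσ
      · rw [one_mul, inv_one, mul_one]
        rfl
    have h5 := (S2697.result (F := F) (p := p) (f := k) hk k.2 hn2 (by omega) (gf n σ) (Psi n F g)
      (Or.inr hgf) Nat.prime_two (orderOf_gf hn hσo) (Cfsg.Agent.H199.PslAut.Psi_mem g)).1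
      (h1 ▸ hto)
    rw [← h1] at h5
    exact h5

theorem card_sq {σ : F ≃+* F} (hσ : orderOf σ = 2) : ∃ q : ℕ, Fintype.card F = q ^ 2 ∧
    ∀ a, σ a = a ^ q := by
  obtain ⟨p, hp⟩ := CharP.exists F
  obtain ⟨k, hpp, hk⟩ := FiniteField.card F p
  have : Fact p.Prime := ⟨hpp⟩
  obtain ⟨-, h2⟩ := Cfsg.Agent.H199.PslField.prime_dvd hk hσ two_pos
  exact ⟨p ^ ((k : ℕ) / 2), h2.symm, Cfsg.Agent.H199.PslGraphField.eq_pow h2.symm hσ⟩

end dual

end Cfsg.Agent.H384.RC
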