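import Mathlib
import Cfsg.Agent.H510.Tri3.RotDef
import Cfsg.Agent.H587.KB8.Geo
import Cfsg.Agent.H452.RC.FMPa
import Cfsg.Agent.H188.RC.ThmA
import Cfsg.Agent.H384.RC.RotA

/-!
# S3510, triality type iii, BOX R (helper384): rotations of order `l` of four orthogonal anisotropic planes
-/

set_option autoImplicit false
open Cfsg

namespace Cfsg.Agent.H384.RC.RotP

open Module QuadraticMap
open Cfsg.Agent.LieClassical.OrthCore Cfsg.Agent.LieClassical.OrthTrans
open Cfsg.Agent.LieClassical.QuadForms Cfsg.Agent.H198.TriBase Cfsg.Agent.GenOrth Cfsg.Agent.H188.RC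
open Cfsg.Agent.LieClassical.OrthSimple Cfsg.Agent.ClassicalGeometry.OrthSemi
open Cfsg.Agent.ClassicalGeometry.OrthAut1 Cfsg.Agent.ClassicalGeometry.TrialityOct
open Cfsg.Agent.ClassicalGeometry.Triality Cfsg.Agent.H510.Tri3

section gen

variable {F V : Type*} [Field F] [AddCommGroup V] [Module F V] {Q : QuadraticForm F V}

theorem nondeg_comp {P : Submodule F V} (h : Cfsg.Agent.H452.RC.FMP.ND Q P) : Nondeg (Q.comp P.subtype) := by
  intro x hx
  apply Subtype.ext
  apply h x x.2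
  intro w hw
  exact hx ⟨w, hw⟩

theorem ext_mem_O {V' : Type*} [AddCommGroup V'] [Module F V'] {Q' : QuadraticForm F V'} (e : Emb Q Q')
    (hc : e.c = 1) {g : V' ≃ₗ[F] V'} (hg : g ∈ O Q') : e.ext g ∈ O Q := by
  intro v
  rw [e.ext_apply]
  have h1 : Q (v + e.j (g (e.π v) - e.π v)) = Q v + Q (e.j (g (e.π v) - e.π v)) +
      polar Q (e.j (g (e.π v) - e.π v)) v := by
    rw [polar_comm, polar]; ring
  have h2 : Q' (g (e.π v)) = Q' (e.π v) := hg _
  have h3 : Q' (g (e.π v) - e.π v) = Q' (g (e.π v)) + Q' (e.π v) - polar Q' (g (e.π v)) (e.π v) := by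
    have h4 : Q' (g (e.π v) - e.π v) = Q' (g (e.π v)) + Q' (-(e.π v)) + polar Q' (g (e.π v)) (-(e.π v)) := by
      rw [polar, sub_eq_add_neg]; ring
    rw [h4, polar_neg_right, QuadraticMap.map_neg]
    ring
  have h5 : polar Q' (e.π v) (e.π v) = 2 * Q' (e.π v) := by
    rw [polar, ← two_smul F (e.π v), QuadraticMap.map_smul]
    simp only [smul_eq_mul]
    ring
  rw [h1, e.adj, e.hQ, hc, h3, polar_sub_left, h5, h2]
  ring

end gen

theorem span_top {F : Type} [Field F] [Finite F] {P : Fin 4 → Submodule F (V8 F)} (two : ∀ k, finrank F (P k) = 2)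
    (perp : ∀ k l, k ≠ l → ∀ v ∈ P k, ∀ w ∈ P l, polar (plusForm 4 F) v w = 0)
    (aniso : ∀ k, ∀ v ∈ P k, plusForm 4 F v = 0 → v = 0) : ⨆ k, P k = ⊤ := by
  classical
  have hnd : ∀ k, Cfsg.Agent.H452.RC.FMP.ND (plusForm 4 F) (P k) := fun k =>
    Cfsg.Agent.H452.RC.FMP.nd_of_aniso (two k) (aniso k)
  let Φ : (∀ k, P k) →ₗ[F] V8 F := LinearMap.lsum F (fun k => P k) F (fun k => (P k).subtype)
  have hΦ : ∀ v : ∀ k, P k, Φ v = ∑ k, (v k : V8 F) := by
    intro v
    simp [Φ, LinearMap.lsum_apply]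
  have hinj : Function.Injective Φ := by
    rw [injective_iff_map_eq_zero]
    intro v hv
    rw [hΦ] at hv
    funext k
    apply Subtype.ext
    apply hnd k _ (v k).2
    intro w hw
    have h1 : polar (plusForm 4 F) (∑ j, (v j : V8 F)) w = polar (plusForm 4 F) (v k : V8 F) w := by
      have h2 : ∀ s : Finset (Fin 4), polar (plusForm 4 F) (∑ j ∈ s, (v j : V8 F)) w =
          ∑ j ∈ s, polar (plusForm 4 F) (v j : V8 F) w := by
        intro s
        induction s using Finset.induction_on with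
        | empty => rw [Finset.sum_empty, Finset.sum_empty, polar_zero_left]
        | insert a s ha ih => rw [Finset.sum_insert ha, Finset.sum_insert ha, polar_add_left, ih]
      rw [h2]
      refine Finset.sum_eq_single k (fun j _ hj => perp j k hj _ (v j).2 w hw) (fun h => absurd (Finset.mem_univ k) h)
    rw [← h1, hv, polar_zero_left]
  have hfin : finrank F (∀ k, P k) = finrank F (V8 F) := by
    rw [finrank_pi_fintype, Finset.sum_congr rfl (fun k _ => two k)]
    simp [V8]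
  have hsurj : Function.Surjective Φ := (LinearMap.injective_iff_surjective_of_finrank_eq_finrank hfin).1 hinj
  rw [Submodule.eq_top_iff']
  intro x
  obtain ⟨v, rfl⟩ := hsurj x
  rw [hΦ]
  exact Submodule.sum_mem _ fun k _ => Submodule.mem_iSup_of_mem k (v k).2

/-- **BOX R** -/
theorem exists_rot {F : Type} [Field F] [Finite F] (hG : Good (plusForm 4 F)) {P : Fin 4 → Submodule F (V8 F)}
    (two : ∀ k, finrank F (P k) = 2)
    (perp : ∀ k l, k ≠ l → ∀ v ∈ P k, ∀ w ∈ P l, polar (plusForm 4 F) v w = 0)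
    (aniso : ∀ k, ∀ v ∈ P k, plusForm 4 F v = 0 → v = 0) {l : ℕ} (hl : l.Prime) (hl2 : l ≠ 2)
    (hlq : l ∣ Nat.card F + 1) :
    ∃ (ρ : Fin 4 → ↥(E (plusForm 4 F))) (τ : F), Rot P l τ ρ := by
  classical
  have := Fintype.ofFinite F
  rw [Nat.card_eq_fintype_card] at hlq
  obtain ⟨ζ, hpr, hζ, hζ'⟩ := exists_zeta hl hl2 hlq
  have hodd : Odd l := hl.odd_of_ne_two hl2
  have hζ2 : fr F (fr F ζ) = ζ := by
    have h3 := congrArg (fr F) hζ
    rw [map_mul, map_one] at h3
    have h0 : fr F ζ ≠ 0 := right_ne_zero_of_mul_eq_one hζ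
    apply mul_left_cancel₀ h0
    rw [h3, mul_comm, hζ]
  obtain ⟨τ, hτ⟩ := mem_range (x := ζ + fr F ζ) (by rw [map_add, hζ2, add_comm])
  have hC : ∀ k, ∃ (c : F) (θ : KK F) (j : P k →ₗ[F] KK F), Coord (plusForm 4 F) (P k) c θ j :=
    fun k => exists_coord (two k) (aniso k)
  choose c θ j hj using hC
  have hnd : ∀ k, Cfsg.Agent.H452.RC.FMP.ND (plusForm 4 F) (P k) := fun k =>
    Cfsg.Agent.H452.RC.FMP.nd_of_aniso (two k) (aniso k)
  have hW : ∀ k, Nondeg ((plusForm 4 F).comp (P k).subtype) := fun k => nondeg_comp (hnd k)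
  let R : ∀ k, P k ≃ₗ[F] P k := fun k => (hj k).rot ζ hζ
  have hR : ∀ k (v : P k), j k (R k v) = ζ * j k v := fun k v => (hj k).j_rot ζ hζ v
  have hRpow : ∀ k (n : ℕ) (v : P k), j k ((R k ^ n) v) = ζ ^ n * j k v := by
    intro k n
    induction n with
    | zero => intro v; rw [pow_zero, pow_zero, one_mul]; rfl
    | succ n ih =>
      intro v
      rw [pow_succ']
      change j k (R k ((R k ^ n) v)) = _
      rw [hR, ih, pow_succ']
      ring
  have hRl : ∀ k, R k ^ l = 1 := by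
    intro k
    ext v
    have h1 := hRpow k l v
    rw [hpr.pow_eq_one, one_mul] at h1
    rw [(hj k).inj h1]
    rfl
  have hRO : ∀ k, R k ∈ O ((plusForm 4 F).comp (P k).subtype) := by
    intro k v
    change plusForm 4 F (R k v : V8 F) = plusForm 4 F (v : V8 F)
    apply (algebraMap F (KK F)).injective
    rw [(hj k).nrm, (hj k).nrm, hR, map_mul]
    linear_combination (algebraMap F (KK F) (c k) * (j k v * fr F (j k v))) * hζ
  let e : ∀ k, Emb (plusForm 4 F) ((plusForm 4 F).comp (P k).subtype) := fun k => embW (hW k)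
  let r : Fin 4 → (V8 F ≃ₗ[F] V8 F) := fun k => (e k).ext (R k)
  have hrl : ∀ k, r k ^ l = 1 := by
    intro k
    change (e k).ext (R k) ^ l = 1
    rw [← map_pow, hRl, map_one]
  have hrO : ∀ k, r k ∈ O (plusForm 4 F) := fun k => ext_mem_O (e k) rfl (hRO k)
  have hrE : ∀ k, r k ∈ E (plusForm 4 F) := fun k =>
    Cfsg.Agent.H587.KB8.mem_E_of_odd hG (hrO k) hodd (hrl k)
  have hrP : ∀ k (v : P k), r k (v : V8 F) = (R k v : V8 F) := fun k v => (e k).ext_j (R k) v
  have hrpowP : ∀ k (n : ℕ) (v : P k), (r k ^ n) (v : V8 F) = ((R k ^ n) v : V8 F) := by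
    intro k n v
    change ((e k).ext (R k) ^ n) (v : V8 F) = _
    rw [← map_pow]
    exact (e k).ext_j (R k ^ n) v
  -- restriction of an isometry preserving `P k`
  have hiso : ∀ (d : V8 F ≃ₗ[F] V8 F), d ∈ O (plusForm 4 F) → ∀ k, (∀ v ∈ P k, d v ∈ P k) →
      ∃ γ : KK F, γ * fr F γ = 1 ∧
        ((∀ v (hv : v ∈ P k) (hdv : d v ∈ P k), j k ⟨d v, hdv⟩ = γ * j k ⟨v, hv⟩) ∨
          ∀ v (hv : v ∈ P k) (hdv : d v ∈ P k), j k ⟨d v, hdv⟩ = γ * fr F (j k ⟨v, hv⟩)) := by
    intro d hd k hdk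
    let g : P k →ₗ[F] P k := d.toLinearMap.restrict hdk
    obtain ⟨γ, h1, h2⟩ := (hj k).iso g (fun v => hd v)
    refine ⟨γ, h1, ?_⟩
    rcases h2 with h2 | h2
    · left
      intro v hv hdv
      exact h2 ⟨v, hv⟩
    · right
      intro v hv hdv
      exact h2 ⟨v, hv⟩
  -- the reflections have order two
  have hrefl : ∀ (d : V8 F ≃ₗ[F] V8 F) k (hdk : ∀ v ∈ P k, d v ∈ P k) (γ : KK F), γ * fr F γ = 1 →
      (∀ v (hv : v ∈ P k) (hdv : d v ∈ P k), j k ⟨d v, hdv⟩ = γ * fr F (j k ⟨v, hv⟩)) →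
      ∀ v ∈ P k, d (d v) = v := by
    intro d k hdk γ hγ h v hv
    have h1 := h (d v) (hdk v hv) (hdk _ (hdk v hv))
    rw [h v hv (hdk v hv), map_mul, (hj k).fix, ← mul_assoc, hγ, one_mul] at h1
    exact congrArg Subtype.val ((hj k).inj h1)
  have hsq : ∀ (d : V8 F ≃ₗ[F] V8 F) k, (∀ v ∈ P k, d v ∈ P k) → (∀ v ∈ P k, d (d v) = v) →
      ∀ n : ℕ, Odd n → d ^ n = 1 → ∀ v ∈ P k, d v = v := by
    intro d k hdk h n hn hdn v hv
    have h1 : ∀ m : ℕ, ∀ v ∈ P k, (d ^ (2 * m)) v = v := by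
      intro m
      induction m with
      | zero => intro v _; rw [mul_zero, pow_zero]; rfl
      | succ m ih =>
        intro v hv
        rw [show 2 * (m + 1) = 2 * m + 1 + 1 by ring, pow_succ, pow_succ]
        change (d ^ (2 * m)) (d (d v)) = v
        rw [h v hv, ih v hv]
    obtain ⟨m, hm⟩ := hn
    have h2 : (d ^ n) v = v := by rw [hdn]; rfl
    rw [hm, pow_succ'] at h2
    change d ((d ^ (2 * m)) v) = v at h2
    rwa [h1 m v hv] at h2
  refine ⟨fun k => ⟨r k, hrE k⟩, τ, ?_, ?_, ?_, ?_, ?_, ?_, ?_⟩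
  · intro k
    exact Subtype.ext (by rw [Subgroup.coe_pow]; exact hrl k)
  · intro k i hik v hv
    change (e k).ext (R k) v = v
    apply (e k).ext_of_π_eq_zero
    apply hW k
    intro x
    have h1 := (e k).adj x v
    have h2 : polar (plusForm 4 F) ((e k).j x) v = 0 := perp k i (Ne.symm hik) x x.2 v hv
    rw [h2] at h1
    have h3 : (e k).c = 1 := rfl
    rw [h3, one_mul] at h1
    rw [polar_comm]
    exact h1.symm
  · intro k v hv
    change r k v ∈ P k
    rw [hrP k ⟨v, hv⟩]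
    exact (R k ⟨v, hv⟩).2
  · intro k v hv a ha
    have ha' : r k v = a • v := ha
    rw [hrP k ⟨v, hv⟩] at ha'
    have h1 : R k ⟨v, hv⟩ = a • (⟨v, hv⟩ : P k) := Subtype.ext ha'
    have h2 := congrArg (j k) h1
    rw [hR, map_smul, Algebra.smul_def] at h2
    by_contra hv0
    have hj0 : j k ⟨v, hv⟩ ≠ 0 := by
      intro h
      rw [← map_zero (j k)] at h
      exact hv0 (congrArg Subtype.val ((hj k).inj h))
    have h3 : ζ = algebraMap F (KK F) a := mul_right_cancel₀ hj0 h2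
    apply hζ'
    rw [h3, fr_algebraMap]
  · intro k v hv
    change r k (r k v) + v = τ • r k v
    have h1 : r k v = (R k ⟨v, hv⟩ : V8 F) := hrP k ⟨v, hv⟩
    rw [h1, hrP k]
    have h2 : R k (R k ⟨v, hv⟩) + ⟨v, hv⟩ = τ • R k ⟨v, hv⟩ := by
      apply (hj k).inj
      rw [map_add, map_smul, hR, hR, Algebra.smul_def, hτ]
      linear_combination (-(j k ⟨v, hv⟩)) * hζ
    exact congrArg Subtype.val h2
  · intro d hd hdl hdP k
    obtain ⟨γ, h1, h2⟩ := hiso d hd k (hdP k)
    rcases h2 with h2 | h2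
    · have h3 : ∀ (n : ℕ) v (hv : v ∈ P k) (hdv : (d ^ n) v ∈ P k), j k ⟨(d ^ n) v, hdv⟩ = γ ^ n * j k ⟨v, hv⟩ := by
        intro n
        induction n with
        | zero =>
          intro v hv hdv
          have h5 : (⟨(d ^ 0) v, hdv⟩ : P k) = ⟨v, hv⟩ := Subtype.ext rfl
          rw [h5, pow_zero, one_mul]
        | succ n ih =>
          intro v hv hdv
          have h4 : (d ^ n) v ∈ P k := by
            clear ih hdv
            induction n with
            | zero => exact hv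
            | succ n ih => rw [pow_succ']; exact hdP k _ ih
          have e0 : (d ^ (n + 1)) v = d ((d ^ n) v) := by rw [pow_succ']; rfl
          have h5 : (⟨(d ^ (n + 1)) v, hdv⟩ : P k) = ⟨d ((d ^ n) v), hdP k _ h4⟩ := Subtype.ext e0
          rw [h5, h2 _ h4, ih v hv h4, pow_succ']
          ring
      obtain ⟨v1, hv1⟩ := (hj k).img 1 (by rw [map_one, map_one])
      have h6 : γ ^ l = 1 := by
        have h7 := h3 l v1 v1.2 (by rw [hdl]; exact v1.2)
        have h8 : j k ⟨(d ^ l) v1, by rw [hdl]; exact v1.2⟩ = j k v1 := by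
          congr 1
          apply Subtype.ext
          change (d ^ l) v1 = v1
          rw [hdl]
          rfl
        rw [h8] at h7
        change j k v1 = γ ^ l * j k v1 at h7
        rw [hv1, mul_one] at h7
        exact h7.symm
      have hnz : NeZero l := ⟨hl.ne_zero⟩
      obtain ⟨i, -, hi⟩ := hpr.eq_pow_of_pow_eq_one h6
      refine ⟨i, fun v hv => ?_⟩
      rw [Subgroup.coe_pow]
      change d v = (r k ^ i) v
      have h9 : (r k ^ i) v = ((R k ^ i) ⟨v, hv⟩ : V8 F) := hrpowP k i ⟨v, hv⟩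
      rw [h9]
      have h10 : (⟨d v, hdP k v hv⟩ : P k) = (R k ^ i) ⟨v, hv⟩ := by
        apply (hj k).inj
        rw [h2 v hv, hRpow, hi]
      exact congrArg Subtype.val h10
    · refine ⟨0, fun v hv => ?_⟩
      rw [pow_zero]
      exact hsq d k (hdP k) (hrefl d k (hdP k) γ h1 h2) l hodd hdl v hv
  · intro k t n hn d hd hdn hdP htr v hv
    change d (r k v) = r k (d v)
    obtain ⟨γ, h1, h2⟩ := hiso d hd k hdP
    have hdv := hdP v hv
    have e1 : r k v = (R k ⟨v, hv⟩ : V8 F) := hrP k ⟨v, hv⟩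
    have e2 : r k (d v) = (R k ⟨d v, hdv⟩ : V8 F) := hrP k ⟨d v, hdv⟩
    rcases h2 with h2 | h2
    · have h3 : (⟨d (R k ⟨v, hv⟩), hdP _ (R k ⟨v, hv⟩).2⟩ : P k) = R k ⟨d v, hdv⟩ := by
        apply (hj k).inj
        rw [h2 _ (R k ⟨v, hv⟩).2, hR, hR, h2 v hv hdv]
        ring
      rw [e1, e2]
      exact congrArg Subtype.val h3
    · have h3 := hrefl d k hdP γ h1 h2
      have h4 : ∃ a : F, ∀ u ∈ P k, d u = a • u := by
        by_cases h20 : (2 : F) = 0
        · refine ⟨1, fun u hu => ?_⟩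
          rw [one_smul]
          refine hsq d k hdP h3 n ?_ hdn u hu
          rw [← Nat.not_even_iff_odd]
          rintro ⟨m, hm⟩
          apply hn
          rw [hm, Nat.cast_add, ← two_mul, h20, zero_mul]
        · refine ⟨t⁻¹ * 2, fun u hu => ?_⟩
          have h5 := htr u hu
          rw [h3 u hu, ← two_smul F u] at h5
          have ht : t ≠ 0 ∨ u = 0 := by
            by_contra hno
            push Not at hno
            rw [hno.1, zero_smul] at h5
            exact hno.2 ((smul_eq_zero.1 h5).resolve_left h20)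
          rcases ht with ht | ht
          · rw [mul_smul, h5, smul_smul, inv_mul_cancel₀ ht, one_smul]
          · rw [ht, map_zero, smul_zero]
      obtain ⟨a, ha⟩ := h4
      rw [ha v hv, map_smul, ha _ (by rw [e1]; exact (R k ⟨v, hv⟩).2)]

end Cfsg.Agent.H384.RC.RotP
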